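import Cfsg.Agent.Lib.GolU.Ext
import Cfsg.Agent.Lib.Golay.Misc
import Cfsg.Agent.Lib.Golay.Dual
import Cfsg.Prelude.Def_Sporadic

/-!
Automorphism groups of the Steiner systems S(t, t+3, t+19).
-/

set_option autoImplicit false

namespace Cfsg.Agent.Lib.GolU

open Cfsg Finset
open Cfsg.Agent.Lib.Steiner
open scoped Pointwise

variable {α : Type*} [Fintype α] [DecidableEq α]

/-- the extension of permutations of `α` to the 24 points -/
noncomputable def Psi {κ : Type*} (f : α ⊕ κ ≃ GolayPt) : Equiv.Perm α →* Equiv.Perm GolayPt :=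
  (f.permCongrHom.toMonoidHom).comp ((Equiv.Perm.sumCongrHom α κ).comp (MonoidHom.inl _ _))

theorem Psi_inl {κ : Type*} (f : α ⊕ κ ≃ GolayPt) (g : Equiv.Perm α) (a : α) :
    Psi f g (f (Sum.inl a)) = f (Sum.inl (g a)) := by
  simp [Psi, Equiv.permCongrHom]

theorem Psi_inr {κ : Type*} (f : α ⊕ κ ≃ GolayPt) (g : Equiv.Perm α) (i : κ) :
    Psi f g (f (Sum.inr i)) = f (Sum.inr i) := by
  simp [Psi, Equiv.permCongrHom]

theorem Psi_inj {κ : Type*} (f : α ⊕ κ ≃ GolayPt) : Function.Injective (Psi f) := by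
  intro g h hgh
  ext a
  have h1 := Psi_inl f g a
  rw [hgh, Psi_inl] at h1
  have := f.injective h1
  simpa using this.symm

theorem exists_Psi {κ : Type*} (f : α ⊕ κ ≃ GolayPt) {m : Equiv.Perm GolayPt} (hm : ∀ i, m (f (Sum.inr i)) = f (Sum.inr i)) :
    ∃ g, Psi f g = m := by
  obtain ⟨φ, hφ⟩ := sum_restrict ((f.trans m).trans f.symm) (by
    intro i
    rw [Equiv.trans_apply, Equiv.trans_apply, hm, Equiv.symm_apply_apply])
  refine ⟨φ, ?_⟩
  ext x
  obtain ⟨y, rfl⟩ := f.surjective x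
  rcases y with a | i
  · rw [Psi_inl, ← hφ]
    simp
  · rw [Psi_inr, hm]

theorem mem_aut {B : Set (Finset α)} {g : Equiv.Perm α} : g ∈ setSystemAut B ↔ ∀ b ∈ B, g • b ∈ B := by
  unfold setSystemAut
  rw [MulAction.mem_stabilizer_iff]
  constructor
  · intro h b hb
    have : g • b ∈ g • B := Set.smul_mem_smul_set hb
    rwa [h] at this
  · intro h
    apply Set.eq_of_subset_of_ncard_le
    · rintro _ ⟨b, hb, rfl⟩; exact h b hb
    · rw [Set.ncard_smul_set]
    · exact Set.toFinite _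

variable {t : ℕ} {B : Set (Finset α)} {f : α ⊕ Fin (5 - t) ≃ GolayPt}

/-- the embedded block -/
noncomputable def eb (f : α ⊕ Fin (5 - t) ≃ GolayPt) (b : Finset α) : Finset GolayPt := (exb b).map f.toEmbedding

theorem mem_eb_inl {b : Finset α} {a : α} : f (Sum.inl a) ∈ eb f b ↔ a ∈ b := by
  rw [eb, mem_map_equiv, Equiv.symm_apply_apply, exb, Finset.inl_mem_disjSum]

theorem mem_eb_inr {b : Finset α} {i : Fin (5 - t)} : f (Sum.inr i) ∈ eb f b := by
  rw [eb, mem_map_equiv, Equiv.symm_apply_apply, exb, Finset.inr_mem_disjSum]; exact mem_univ _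

theorem ext_f {s s' : Finset GolayPt} (h1 : ∀ a, f (Sum.inl a) ∈ s ↔ f (Sum.inl a) ∈ s')
    (h2 : ∀ i, f (Sum.inr i) ∈ s ↔ f (Sum.inr i) ∈ s') : s = s' := by
  ext x
  obtain ⟨y, rfl⟩ := f.surjective x
  rcases y with a | i
  · exact h1 a
  · exact h2 i

theorem mem_smul_perm {β : Type*} [DecidableEq β] (m : Equiv.Perm β) (s : Finset β) (x : β) : m x ∈ m • s ↔ x ∈ s := by
  constructor
  · intro h
    rw [Finset.mem_smul_finset] at h
    obtain ⟨y, hy, he⟩ := h
    rwa [m.injective he] at hy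
  · intro h; exact Finset.smul_mem_smul_finset h

theorem Psi_smul_eb (g : Equiv.Perm α) (b : Finset α) : Psi f g • eb f b = eb f (g • b) := by
  apply ext_f (f := f)
  · intro a
    have h1 : f (Sum.inl a) = Psi f g (f (Sum.inl (g⁻¹ a))) := by
      rw [Psi_inl]; simp
    conv_lhs => rw [h1, mem_smul_perm, mem_eb_inl]
    rw [mem_eb_inl]
    conv_rhs => rw [show a = g (g⁻¹ a) by simp, mem_smul_perm]
  · intro i
    have h1 : f (Sum.inr i) = Psi f g (f (Sum.inr i)) := by rw [Psi_inr]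
    conv_lhs => rw [h1, mem_smul_perm]
    simp only [mem_eb_inr]

theorem aut_of_Psi (hf : ∀ b, b ∈ B ↔ b.card = t + 3 ∧ Golay.IsWord (eb f b)) {g : Equiv.Perm α}
    (hg : Psi f g ∈ M24) : g ∈ setSystemAut B := by
  rw [mem_aut]
  intro b hb
  rw [hf] at hb ⊢
  rw [Finset.card_smul_finset, ← Psi_smul_eb]
  exact ⟨hb.1, Golay.IsWord.smul hg hb.2⟩

theorem exists_perp (h2 : 2 ≤ t) (h5 : t ≤ 5) (hα : Fintype.card α = t + 19) (hB : IsSteinerSystem t (t + 3) B)
    (hf : ∀ b, b ∈ B ↔ b.card = t + 3 ∧ Golay.IsWord (eb f b)) {v : Finset GolayPt}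
    (hv : ∀ b ∈ B, Even (v ∩ eb f b).card) : ∃ k : Finset (Fin (5 - t)), Even k.card ∧
      Golay.IsWord (symmDiff v (((∅ : Finset α).disjSum k).map f.toEmbedding)) := by
  obtain ⟨u, hu4, hu⟩ := golGF.leader v
  rw [mem_golFam] at hu
  have hu' : ∀ b ∈ B, Even (u ∩ eb f b).card := by
    intro b hb
    have h1 := golGF.even (mem_golFam.2 hu) (mem_golFam.2 ((hf b).1 hb).2)
    have h3 := card_sd_inter v u (eb f b)
    have h4 := hv b hb
    rw [Nat.even_iff] at h1 h4 ⊢
    omega
  have hk := exists_small_perp h2 h5 hα hB (s := u.map f.symm.toEmbedding) (by rwa [Finset.card_map]) (by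
    intro b hb
    have h1 := hu' b hb
    have : (u.map f.symm.toEmbedding ∩ exb b).card = (u ∩ eb f b).card := by
      rw [← Finset.card_map f.toEmbedding, Finset.map_inter, map_map_symm]; rfl
    rwa [this])
  refine ⟨(u.map f.symm.toEmbedding).toRight, hk.2, ?_⟩
  have : ((∅ : Finset α).disjSum (u.map f.symm.toEmbedding).toRight).map f.toEmbedding = u := by
    rw [← hk.1, ds_eta, map_map_symm]
  rw [this]; exact hu

theorem smul_inter_card (m : Equiv.Perm GolayPt) (s s' : Finset GolayPt) :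
    (m • s ∩ s').card = (s ∩ m⁻¹ • s').card := by
  rw [← Finset.card_smul_finset m⁻¹ (m • s ∩ s'), Finset.smul_finset_inter, inv_smul_smul]

theorem aut_perp (h2 : 2 ≤ t) (h5 : t ≤ 5) (hα : Fintype.card α = t + 19) (hB : IsSteinerSystem t (t + 3) B)
    (hf : ∀ b, b ∈ B ↔ b.card = t + 3 ∧ Golay.IsWord (eb f b)) {g : Equiv.Perm α} (hg : g ∈ setSystemAut B)
    {w : Finset GolayPt} (hw : Golay.IsWord w) : ∃ k : Finset (Fin (5 - t)), Even k.card ∧
      Golay.IsWord (symmDiff (Psi f g • w) (((∅ : Finset α).disjSum k).map f.toEmbedding)) := by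
  apply exists_perp h2 h5 hα hB hf
  intro b hb
  rw [smul_inter_card, ← map_inv, Psi_smul_eb]
  have h1 := mem_aut.1 ((setSystemAut B).inv_mem hg) b hb
  exact golGF.even (mem_golFam.2 hw) (mem_golFam.2 ((hf _).1 h1).2)

theorem Psi_of_aut4 (h4 : 4 ≤ t) (h5 : t ≤ 5) (hα : Fintype.card α = t + 19) (hB : IsSteinerSystem t (t + 3) B)
    (hf : ∀ b, b ∈ B ↔ b.card = t + 3 ∧ Golay.IsWord (eb f b)) {g : Equiv.Perm α} (hg : g ∈ setSystemAut B) :
    Psi f g ∈ M24 := by
  rw [Golay.mem_M24_iff]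
  intro w hw
  obtain ⟨k, hk, hkw⟩ := aut_perp (by omega) h5 hα hB hf hg hw
  have : k = ∅ := by
    have := Finset.card_le_univ k
    rw [Fintype.card_fin] at this
    rw [← Finset.card_eq_zero]
    rw [Nat.even_iff] at hk; omega
  rw [this] at hkw
  have h3 : symmDiff (Psi f g • w) ∅ = Psi f g • w := symmDiff_bot _
  simp only [Finset.empty_disjSum, Finset.map_empty] at hkw
  rwa [h3] at hkw

theorem aut_eq_comap (h4 : 4 ≤ t) (h5 : t ≤ 5) (hα : Fintype.card α = t + 19) (hB : IsSteinerSystem t (t + 3) B)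
    (hf : ∀ b, b ∈ B ↔ b.card = t + 3 ∧ Golay.IsWord (eb f b)) : setSystemAut B = M24.comap (Psi f) := by
  ext g
  rw [Subgroup.mem_comap]
  exact ⟨Psi_of_aut4 h4 h5 hα hB hf, aut_of_Psi hf⟩

/-- the elements of `M24` fixing the extra points -/
def fixK (f : α ⊕ Fin (5 - t) ≃ GolayPt) : Subgroup (Equiv.Perm GolayPt) :=
  M24 ⊓ ⨅ i : Fin (5 - t), MulAction.stabilizer (Equiv.Perm GolayPt) (f (Sum.inr i))

theorem mem_fixK {m : Equiv.Perm GolayPt} : m ∈ fixK f ↔ m ∈ M24 ∧ ∀ i, m (f (Sum.inr i)) = f (Sum.inr i) := by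
  unfold fixK
  rw [Subgroup.mem_inf, Subgroup.mem_iInf]
  rfl

theorem map_comap_eq : (M24.comap (Psi f)).map (Psi f) = fixK f := by
  ext m
  rw [mem_fixK, Subgroup.mem_map]
  constructor
  · rintro ⟨g, hg, rfl⟩; exact ⟨hg, Psi_inr f g⟩
  · rintro ⟨h1, h2⟩
    obtain ⟨g, rfl⟩ := exists_Psi f h2
    exact ⟨g, h1, rfl⟩

noncomputable def comapEquiv (f : α ⊕ Fin (5 - t) ≃ GolayPt) : ↥(M24.comap (Psi f)) ≃* ↥(fixK f) :=
  (Subgroup.equivMapOfInjective _ (Psi f) (Psi_inj f)).trans (MulEquiv.subgroupCongr map_comap_eq)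

/-- transitivity -/
theorem trans_seq (h5 : t ≤ 5) (hf : ∀ b, b ∈ B ↔ b.card = t + 3 ∧ Golay.IsWord (eb f b)) (x y : Fin t ↪ α) :
    ∃ g ∈ setSystemAut B, ∀ i, g (x i) = y i := by
  have hz : ∀ (x : Fin t ↪ α), ∀ i < 5, ∀ j < i,
      (fun i => if h : i < t then f (Sum.inl (x ⟨i, h⟩)) else if h' : i - t < 5 - t then f (Sum.inr ⟨i - t, h'⟩) else none) j ≠
      (fun i => if h : i < t then f (Sum.inl (x ⟨i, h⟩)) else if h' : i - t < 5 - t then f (Sum.inr ⟨i - t, h'⟩) else none) i := by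
    intro x i hi j hj
    by_cases hit : i < t
    · have hjt : j < t := hj.trans hit
      simp only [hit, hjt, dif_pos]
      intro h
      have := f.injective h
      simp only [Sum.inl.injEq] at this
      have := x.injective this
      simp only [Fin.mk.injEq] at this
      omega
    · have h1 : i - t < 5 - t := by omega
      by_cases hjt : j < t
      · simp only [hjt, hit, h1, dif_pos, dif_neg, not_false_eq_true]
        intro h
        have := f.injective h
        exact absurd this (by simp)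
      · have h2 : j - t < 5 - t := by omega
        simp only [hjt, hit, h1, h2, dif_pos, dif_neg, not_false_eq_true]
        intro h
        have := f.injective h
        simp only [Sum.inr.injEq, Fin.mk.injEq] at this
        omega
  obtain ⟨m, hm, hmx⟩ := Golay.exists_map_le5 (le_refl 5) (hz x) (hz y)
  have hfix : ∀ i, m (f (Sum.inr i)) = f (Sum.inr i) := by
    intro i
    have h1 := hmx (i.1 + t) (by omega)
    have h2 : ¬ (i.1 + t < t) := by omega
    have h3 : i.1 + t - t = i.1 := by omega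
    simp only [h2, h3, i.2, dif_pos, dif_neg, not_false_eq_true] at h1
    exact h1
  obtain ⟨g, rfl⟩ := exists_Psi f hfix
  refine ⟨g, aut_of_Psi hf hm, fun i => ?_⟩
  have h1 := hmx i.1 (by omega)
  simp only [i.2, dif_pos] at h1
  rw [Psi_inl] at h1
  have := f.injective h1
  simpa using this

theorem pretrans (h5 : t ≤ 5) (hf : ∀ b, b ∈ B ↔ b.card = t + 3 ∧ Golay.IsWord (eb f b)) :
    MulAction.IsMultiplyPretransitive (setSystemAut B) α t := by
  constructor
  intro x y
  obtain ⟨g, hg, h⟩ := trans_seq h5 hf x y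
  refine ⟨⟨g, hg⟩, ?_⟩
  ext i
  exact h i

theorem fixK_five (f : α ⊕ Fin (5 - 5) ≃ GolayPt) : fixK f = M24 := by
  ext m; rw [mem_fixK]
  exact ⟨fun h => h.1, fun h => ⟨h, fun i => i.elim0⟩⟩

theorem fixK_four (f : α ⊕ Fin (5 - 4) ≃ GolayPt) : fixK f =
    M24 ⊓ MulAction.stabilizer (Equiv.Perm GolayPt) (f (Sum.inr 0)) := by
  ext m; rw [mem_fixK]
  constructor
  · rintro ⟨h1, h2⟩; exact ⟨h1, h2 0⟩
  · rintro ⟨h1, h2⟩
    refine ⟨h1, fun i => ?_⟩
    have : i = 0 := by
      have : ∀ j : Fin 1, j = 0 := by decide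
      exact this i
    rw [this]; exact h2

theorem fixK_three (f : α ⊕ Fin (5 - 3) ≃ GolayPt) : fixK f =
    M24 ⊓ MulAction.stabilizer (Equiv.Perm GolayPt) (f (Sum.inr 0)) ⊓
      MulAction.stabilizer (Equiv.Perm GolayPt) (f (Sum.inr 1)) := by
  ext m; rw [mem_fixK]
  constructor
  · rintro ⟨h1, h2⟩; exact ⟨⟨h1, h2 0⟩, h2 1⟩
  · rintro ⟨⟨h1, h2⟩, h3⟩
    refine ⟨h1, fun i => ?_⟩
    have hi : i = 0 ∨ i = 1 := by
      have : ∀ j : Fin 2, j = 0 ∨ j = 1 := by decide
      exact this i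
    rcases hi with rfl | rfl
    · exact h2
    · exact h3

theorem isM24_of (hα : Fintype.card α = 24) (hB : IsSteinerSystem 5 8 B) : IsM24 (setSystemAut B) := by
  obtain ⟨f, hf⟩ := exists_embed (t := 5) (by norm_num) (by norm_num) hα hB
  have e : setSystemAut B ≃* M24 := (MulEquiv.subgroupCongr (aut_eq_comap (by norm_num) (by norm_num) hα hB hf)).trans
    ((comapEquiv f).trans (MulEquiv.subgroupCongr (fixK_five f)))
  have := Golay.isSimple_M24
  refine ⟨e.isSimpleGroup, ?_⟩
  rw [Nat.card_congr e.toEquiv, Golay.card_M24]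

theorem isM23_of (hα : Fintype.card α = 23) (hB : IsSteinerSystem 4 7 B) : IsM23 (setSystemAut B) := by
  obtain ⟨f, hf⟩ := exists_embed (t := 4) (by norm_num) (by norm_num) hα hB
  have e : setSystemAut B ≃* ↥(M24 ⊓ MulAction.stabilizer (Equiv.Perm GolayPt) (f (Sum.inr 0))) :=
    (MulEquiv.subgroupCongr (aut_eq_comap (by norm_num) (by norm_num) hα hB hf)).trans
    ((comapEquiv f).trans (MulEquiv.subgroupCongr (fixK_four f)))
  have hs := Golay.isSimple_stab1 (f (Sum.inr 0))
  have e2 : ↥(MulAction.stabilizer M24 (f (Sum.inr 0))) ≃*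
      ↥(M24 ⊓ MulAction.stabilizer (Equiv.Perm GolayPt) (f (Sum.inr 0))) :=
    Golay.subgroupOfEquivInf M24 (MulAction.stabilizer (Equiv.Perm GolayPt) (f (Sum.inr 0)))
  refine ⟨(e.trans e2.symm).isSimpleGroup, ?_⟩
  rw [Nat.card_congr e.toEquiv, Golay.card_M24_stab1]


theorem swap_smul_of_both {β : Type*} [DecidableEq β] {p q : β} {s : Finset β} (hp : p ∈ s) (hq : q ∈ s) :
    Equiv.swap p q • s = s := by
  ext x
  have h := mem_smul_perm (Equiv.swap p q) s (Equiv.swap p q x)
  rw [Equiv.swap_apply_self] at h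
  rw [h]
  by_cases h1 : x = p
  · rw [h1, Equiv.swap_apply_left]; tauto
  · by_cases h2 : x = q
    · rw [h2, Equiv.swap_apply_right]; tauto
    · rw [Equiv.swap_apply_of_ne_of_ne h1 h2]

theorem swap_smul_of_one {β : Type*} [DecidableEq β] {p q : β} {s : Finset β} (hpq : (p ∈ s ∧ q ∉ s) ∨ (p ∉ s ∧ q ∈ s)) :
    Equiv.swap p q • s = symmDiff s {p, q} := by
  ext x
  have h := mem_smul_perm (Equiv.swap p q) s (Equiv.swap p q x)
  rw [Equiv.swap_apply_self] at h
  rw [h, mem_symmDiff, mem_insert, mem_singleton]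
  by_cases h1 : x = p
  · rw [h1, Equiv.swap_apply_left]; tauto
  · by_cases h2 : x = q
    · rw [h2, Equiv.swap_apply_right]; tauto
    · rw [Equiv.swap_apply_of_ne_of_ne h1 h2]; tauto

theorem swap_not_mem {p q : GolayPt} (hpq : p ≠ q) : Equiv.swap p q ∉ M24 := by
  intro h
  obtain ⟨c, hc, hce⟩ := Golay.exists_word_small (A := {p, q}) (E := {p}) (by rw [Finset.card_pair hpq]; norm_num)
    (by simp)
  have hp : p ∈ c := by
    have : p ∈ c ∩ {p, q} := by rw [hce]; exact mem_singleton_self _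
    exact (mem_inter.1 this).1
  have hq : q ∉ c := by
    intro hq
    have : q ∈ c ∩ {p, q} := mem_inter.2 ⟨hq, by simp⟩
    rw [hce, mem_singleton] at this
    exact hpq this.symm
  have h1 := Golay.IsWord.smul h hc
  rw [swap_smul_of_one (Or.inl ⟨hp, hq⟩)] at h1
  have h2 := hc.symmDiff h1
  rw [symmDiff_symmDiff_cancel_left] at h2
  have := Golay.word_small h2 (by rw [Finset.card_pair hpq]; norm_num)
  exact absurd this (by simp)

theorem swap_comm_Psi (f : α ⊕ Fin (5 - 3) ≃ GolayPt) (g : Equiv.Perm α) :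
    Psi f g * Equiv.swap (f (Sum.inr 0)) (f (Sum.inr 1)) = Equiv.swap (f (Sum.inr 0)) (f (Sum.inr 1)) * Psi f g := by
  rw [Equiv.mul_swap_eq_swap_mul, Psi_inr, Psi_inr]

theorem word4 {w : Finset GolayPt} (hw : Golay.IsWord w) : 4 ∣ w.card := golGF.de.1 w (mem_golFam.2 hw)

theorem aut3 {f : α ⊕ Fin (5 - 3) ≃ GolayPt} (hα : Fintype.card α = 22) (hB : IsSteinerSystem 3 6 B)
    (hf : ∀ b, b ∈ B ↔ b.card = 3 + 3 ∧ Golay.IsWord (eb f b)) {g : Equiv.Perm α} (hg : g ∈ setSystemAut B) :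
    Psi f g ∈ M24 ∨ Equiv.swap (f (Sum.inr 0)) (f (Sum.inr 1)) * Psi f g ∈ M24 := by
  set p := f (Sum.inr 0) with hp
  set q := f (Sum.inr 1) with hq
  have hpq : p ≠ q := by
    intro h
    have := f.injective h
    simp at this
  have claim : ∀ w, Golay.IsWord w → Golay.IsWord (Psi f g • w) ∨ Golay.IsWord (Equiv.swap p q • (Psi f g • w)) := by
    intro w hw
    obtain ⟨k, hk, hkw⟩ := aut_perp (t := 3) (by norm_num) (by norm_num) hα hB hf hg hw
    have hk2 : k = ∅ ∨ k = Finset.univ := by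
      have h1 : ∀ k : Finset (Fin 2), Even k.card → k = ∅ ∨ k = Finset.univ := by decide
      exact h1 k hk
    rcases hk2 with rfl | rfl
    · left
      have h3 : symmDiff (Psi f g • w) ∅ = Psi f g • w := symmDiff_bot _
      simp only [Finset.empty_disjSum, Finset.map_empty] at hkw
      rwa [h3] at hkw
    · right
      have hK : ((∅ : Finset α).disjSum (Finset.univ : Finset (Fin (5 - 3)))).map f.toEmbedding = {p, q} := by
        apply ext_f (f := f)
        · intro a
          rw [mem_map_equiv, Equiv.symm_apply_apply, Finset.inl_mem_disjSum, mem_insert, mem_singleton]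
          simp [hp, hq]
        · intro i
          rw [mem_map_equiv, Equiv.symm_apply_apply, Finset.inr_mem_disjSum, mem_insert, mem_singleton]
          have hi : i = 0 ∨ i = 1 := by
            have : ∀ j : Fin 2, j = 0 ∨ j = 1 := by decide
            exact this i
          rcases hi with rfl | rfl
          · simp [hp]
          · simp [hq]
      rw [hK] at hkw
      have h1 := word4 hw
      have h2 := word4 hkw
      have h3 := card_sd (Psi f g • w) {p, q}
      rw [Finset.card_smul_finset, Finset.card_pair hpq] at h3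
      have h4 : (Psi f g • w ∩ {p, q}).card % 2 = 1 := by omega
      have h5 : (p ∈ Psi f g • w ∧ q ∉ Psi f g • w) ∨ (p ∉ Psi f g • w ∧ q ∈ Psi f g • w) := by
        by_cases a1 : p ∈ Psi f g • w <;> by_cases a2 : q ∈ Psi f g • w
        · exfalso
          have : Psi f g • w ∩ {p, q} = {p, q} := by
            rw [Finset.inter_eq_right]
            intro x hx
            rcases mem_insert.1 hx with rfl | hx
            · exact a1
            · rw [mem_singleton.1 hx]; exact a2
          rw [this, Finset.card_pair hpq] at h4; omega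
        · exact Or.inl ⟨a1, a2⟩
        · exact Or.inr ⟨a1, a2⟩
        · exfalso
          have : Psi f g • w ∩ {p, q} = ∅ := by
            rw [Finset.eq_empty_iff_forall_notMem]
            intro x hx
            rw [mem_inter] at hx
            rcases mem_insert.1 hx.2 with h6 | h6
            · rw [h6] at hx; exact a1 hx.1
            · rw [mem_singleton.1 h6] at hx; exact a2 hx.1
          rw [this] at h4; simp at h4
      rw [swap_smul_of_one h5]; exact hkw
  by_contra hcon
  push Not at hcon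
  obtain ⟨hA, hB'⟩ := hcon
  rw [Golay.mem_M24_iff] at hA hB'
  push Not at hA hB'
  obtain ⟨w1, hw1, hA1⟩ := hA
  obtain ⟨w2, hw2, hB2⟩ := hB'
  rw [mul_smul] at hB2
  have hB1 := (claim w1 hw1).resolve_left hA1
  have hA2 := (claim w2 hw2).resolve_right hB2
  rcases claim _ (hw1.symmDiff hw2) with h | h
  · rw [Golay.smul_symmDiff] at h
    have := h.symmDiff hA2
    rw [symmDiff_symmDiff_cancel_right] at this
    exact hA1 this
  · rw [Golay.smul_symmDiff, Golay.smul_symmDiff] at h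
    have := hB1.symmDiff h
    rw [symmDiff_symmDiff_cancel_left] at this
    exact hB2 this

theorem isM22_of (hα : Fintype.card α = 22) (hB : IsSteinerSystem 3 6 B) :
    Nat.card (setSystemAut B) = 887040 ∧ ∃ H : Subgroup (setSystemAut B), H.index = 2 ∧ IsM22 H := by
  obtain ⟨f, hf⟩ := exists_embed (t := 3) (by norm_num) (by norm_num) hα hB
  set p := f (Sum.inr 0) with hp
  set q := f (Sum.inr 1) with hq
  have hpq : p ≠ q := by
    intro h
    have := f.injective h
    simp at this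
  have hle : M24.comap (Psi f) ≤ setSystemAut B := fun g hg => aut_of_Psi hf hg
  set H : Subgroup (setSystemAut B) := (M24.comap (Psi f)).subgroupOf (setSystemAut B) with hH
  have memH : ∀ b : setSystemAut B, b ∈ H ↔ Psi f b.1 ∈ M24 := fun b => Iff.rfl
  have e : H ≃* ↥(M24 ⊓ MulAction.stabilizer (Equiv.Perm GolayPt) p ⊓
      MulAction.stabilizer (Equiv.Perm GolayPt) q) :=
    (Subgroup.subgroupOfEquivOfLe hle).trans ((comapEquiv f).trans (MulEquiv.subgroupCongr (fixK_three f)))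
  have hs := Golay.isSimple_stab2 hpq
  have e2 : ↥(MulAction.stabilizer M24 p ⊓ MulAction.stabilizer M24 q) ≃*
      ↥(M24 ⊓ MulAction.stabilizer (Equiv.Perm GolayPt) p ⊓ MulAction.stabilizer (Equiv.Perm GolayPt) q) :=
    (Golay.subgroupOfEquivInf M24 (MulAction.stabilizer _ p ⊓ MulAction.stabilizer _ q)).trans
      (MulEquiv.subgroupCongr (by rw [inf_assoc]))
  have hcardH : Nat.card H = 443520 := by rw [Nat.card_congr e.toEquiv, Golay.card_M24_stab2 hpq]
  obtain ⟨m0, hm0, hm0p, hm0q⟩ := Golay.exists_map_pair hpq hpq.symm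
  obtain ⟨g0, hg0⟩ := exists_Psi f (m := Equiv.swap p q * m0) (by
    intro i
    have hi : i = 0 ∨ i = 1 := by
      have : ∀ j : Fin 2, j = 0 ∨ j = 1 := by decide
      exact this i
    rcases hi with rfl | rfl
    · rw [← hp, Equiv.Perm.mul_apply, hm0p, Equiv.swap_apply_right]
    · rw [← hq, Equiv.Perm.mul_apply, hm0q, Equiv.swap_apply_left])
  have hg0B : g0 ∈ setSystemAut B := by
    rw [mem_aut]
    intro b hb
    rw [hf] at hb ⊢
    rw [Finset.card_smul_finset]
    refine ⟨hb.1, ?_⟩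
    have h1 := Psi_smul_eb (f := f) g0 b
    show Golay.IsWord (eb f (g0 • b))
    rw [← h1, hg0, mul_smul, swap_smul_of_both]
    · exact Golay.IsWord.smul hm0 hb.2
    · rw [← hm0q, mem_smul_perm]; exact mem_eb_inr
    · rw [← hm0p, mem_smul_perm]; exact mem_eb_inr
  have hidx : H.index = 2 := by
    rw [Subgroup.index_eq_two_iff]
    refine ⟨⟨g0, hg0B⟩, fun b => ?_⟩
    have hne : ¬ (Psi f b.1 ∈ M24 ∧ Psi f (b.1 * g0) ∈ M24) := by
      rintro ⟨h1, h2⟩
      rw [map_mul, hg0] at h2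
      have h3 := M24.mul_mem (M24.inv_mem h1) h2
      rw [inv_mul_cancel_left] at h3
      have h4 := M24.mul_mem h3 (M24.inv_mem hm0)
      rw [mul_inv_cancel_right] at h4
      exact swap_not_mem hpq h4
    by_cases hb : Psi f b.1 ∈ M24
    · exact Or.inr ⟨hb, fun h => hne ⟨hb, h⟩⟩
    · refine Or.inl ⟨?_, hb⟩
      have h1 := (aut3 hα hB hf b.2).resolve_left hb
      show Psi f (b.1 * g0) ∈ M24
      rw [map_mul, hg0, ← mul_assoc, swap_comm_Psi]
      exact M24.mul_mem h1 hm0
  refine ⟨?_, H, hidx, (e.trans e2.symm).isSimpleGroup, hcardH⟩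
  rw [← Subgroup.card_mul_index H, hcardH, hidx]

end Cfsg.Agent.Lib.GolU
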