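import Cfsg.Agent.Lib.SteinerPar
import Mathlib.Data.Complex.Basic
import Mathlib.Algebra.BigOperators.Ring.Finset

/-!
Doubly even families of subsets of a 24-set, closed under symmetric difference.
-/

set_option autoImplicit false

namespace Cfsg.Agent.Lib.GolU

open Cfsg Finset

variable {α : Type*} [Fintype α] [DecidableEq α]

theorem card_sd (s t : Finset α) : (symmDiff s t).card + 2 * (s ∩ t).card = s.card + t.card := by
  have := Cfsg.Agent.Lib.Steiner.card_inter_symmDiff Finset.univ s t
  simpa using this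

theorem card_sd_inter (s t u : Finset α) :
    (symmDiff s t ∩ u).card + 2 * (s ∩ t ∩ u).card = (s ∩ u).card + (t ∩ u).card := by
  have := Cfsg.Agent.Lib.Steiner.card_inter_symmDiff u s t
  rw [Finset.inter_comm u, Finset.inter_comm u s, Finset.inter_comm u t] at this
  have e : s ∩ u ∩ t = s ∩ t ∩ u := by ext x; simp only [mem_inter]; tauto
  rw [e] at this
  exact this

/-- closed under symmetric difference, containing the empty set -/
structure Closed (U : Finset (Finset α)) : Prop where
  zero : ∅ ∈ U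
  add : ∀ s ∈ U, ∀ t ∈ U, symmDiff s t ∈ U

/-- the orthogonal family -/
def perp (U : Finset (Finset α)) : Finset (Finset α) :=
  Finset.univ.filter (fun d => ∀ c ∈ U, Even (d ∩ c).card)

theorem mem_perp {U : Finset (Finset α)} {d : Finset α} : d ∈ perp U ↔ ∀ c ∈ U, Even (d ∩ c).card := by
  simp [perp]

theorem even_sd {s t u : Finset α} (h1 : Even (s ∩ u).card) (h2 : Even (t ∩ u).card) :
    Even (symmDiff s t ∩ u).card := by
  have := card_sd_inter s t u
  obtain ⟨a, ha⟩ := h1
  obtain ⟨b, hb⟩ := h2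
  exact ⟨a + b - (s ∩ t ∩ u).card, by omega⟩

theorem perp_closed (U : Finset (Finset α)) : Closed (perp U) where
  zero := by rw [mem_perp]; intro c _; simp
  add := by
    intro s hs t ht
    rw [mem_perp] at hs ht ⊢
    intro c hc
    exact even_sd (hs c hc) (ht c hc)

theorem neg_one_pow_sd (s t u : Finset α) :
    ((-1 : ℤ)) ^ (symmDiff s t ∩ u).card = (-1) ^ (s ∩ u).card * (-1) ^ (t ∩ u).card := by
  have := card_sd_inter s t u
  rw [← pow_add, ← this, pow_add, pow_mul]
  simp

theorem char_sum {U : Finset (Finset α)} (hU : Closed U) (d : Finset α) :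
    ∑ c ∈ U, (-1 : ℤ) ^ (c ∩ d).card = if d ∈ perp U then (U.card : ℤ) else 0 := by
  split_ifs with h
  · rw [mem_perp] at h
    rw [Finset.sum_congr rfl (g := fun _ => (1 : ℤ))]
    · simp
    · intro c hc
      have := h c hc
      rw [Finset.inter_comm] at this
      exact this.neg_one_pow
  · rw [mem_perp] at h
    push Not at h
    obtain ⟨c0, hc0, h0⟩ := h
    have h1 : ∑ c ∈ U, (-1 : ℤ) ^ (c ∩ d).card = ∑ c ∈ U, (-1 : ℤ) ^ (symmDiff c c0 ∩ d).card := by
      refine (Finset.sum_bij' (fun c _ => symmDiff c c0) (fun c _ => symmDiff c c0)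
        (fun c hc => hU.add c hc c0 hc0) (fun c hc => hU.add c hc c0 hc0) ?_ ?_ ?_).symm
      · intro c _; exact symmDiff_symmDiff_cancel_right c0 c
      · intro c _; exact symmDiff_symmDiff_cancel_right c0 c
      · intro c _; rfl
    have h2 : (-1 : ℤ) ^ (c0 ∩ d).card = -1 := by
      rw [Finset.inter_comm] at h0
      exact Odd.neg_one_pow (Nat.not_even_iff_odd.1 h0)
    have h3 : ∑ c ∈ U, (-1 : ℤ) ^ (symmDiff c c0 ∩ d).card = - ∑ c ∈ U, (-1 : ℤ) ^ (c ∩ d).card := by
      rw [← Finset.sum_neg_distrib]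
      apply Finset.sum_congr rfl
      intro c _
      rw [neg_one_pow_sd, h2]; ring
    rw [h3] at h1
    linarith

theorem closed_univ : Closed (Finset.univ : Finset (Finset α)) := ⟨mem_univ _, fun _ _ _ _ => mem_univ _⟩

theorem mem_perp_univ {c : Finset α} : c ∈ perp (Finset.univ : Finset (Finset α)) ↔ c = ∅ := by
  rw [mem_perp]
  constructor
  · intro h
    by_contra hc
    obtain ⟨x, hx⟩ := Finset.nonempty_iff_ne_empty.2 hc
    have := h {x} (mem_univ _)
    rw [Finset.inter_singleton_of_mem hx, Finset.card_singleton] at this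
    exact absurd this (by decide)
  · rintro rfl c _; simp

/-- sizes of a closed family and its orthogonal -/
theorem card_mul_perp {U : Finset (Finset α)} (hU : Closed U) :
    U.card * (perp U).card = 2 ^ Fintype.card α := by
  have h1 : ∑ d : Finset α, ∑ c ∈ U, (-1 : ℤ) ^ (c ∩ d).card = (perp U).card * (U.card : ℤ) := by
    rw [Finset.sum_congr rfl (fun d _ => char_sum hU d)]
    rw [← Finset.sum_filter, Finset.sum_const]
    have : (Finset.univ.filter (fun d => d ∈ perp U)) = perp U := by ext d; simp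
    rw [this]; simp
  have h2 : ∀ c : Finset α, ∑ d : Finset α, (-1 : ℤ) ^ (c ∩ d).card = if c = ∅ then (2 : ℤ) ^ Fintype.card α else 0 := by
    intro c
    have := char_sum (closed_univ (α := α)) c
    simp only [mem_perp_univ, Finset.card_univ, Fintype.card_finset] at this
    rw [Finset.sum_congr rfl (g := fun d => (-1 : ℤ) ^ (d ∩ c).card) (fun d _ => by rw [Finset.inter_comm])]
    rw [this]
    push_cast
    rfl
  rw [Finset.sum_comm, Finset.sum_congr rfl (fun c _ => h2 c), Finset.sum_ite_eq_of_mem' _ _ _ hU.zero] at h1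
  have h3 : ((U.card * (perp U).card : ℕ) : ℤ) = ((2 ^ Fintype.card α : ℕ) : ℤ) := by
    push_cast; rw [h1]; ring
  exact_mod_cast h3

/-- doubly even, pairwise even -/
def DE (E : Finset (Finset α)) : Prop := (∀ s ∈ E, 4 ∣ s.card) ∧ ∀ s ∈ E, ∀ t ∈ E, Even (s ∩ t).card

theorem Closed.de {E : Finset (Finset α)} (hE : Closed E) (h : ∀ s ∈ E, 4 ∣ s.card) : DE E := by
  refine ⟨h, fun s hs t ht => ?_⟩
  have h1 := card_sd s t
  have h2 := h s hs
  have h3 := h t ht
  have h4 := h _ (hE.add s hs t ht)
  rw [Nat.even_iff]; omega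

theorem exists_max {E : Finset (Finset α)} (h : DE E) : ∃ F, E ⊆ F ∧ Maximal DE F :=
  Finite.exists_le_maximal h

theorem de_insert {F : Finset (Finset α)} (h : DE F) {s : Finset α} (hs : 4 ∣ s.card)
    (hp : ∀ t ∈ F, Even (s ∩ t).card) : DE (insert s F) := by
  have hss : Even (s ∩ s).card := by rw [Finset.inter_self]; obtain ⟨k, hk⟩ := hs; exact ⟨2 * k, by omega⟩
  refine ⟨?_, ?_⟩
  · intro t ht
    rcases mem_insert.1 ht with rfl | ht
    · exact hs
    · exact h.1 t ht
  · intro t ht u hu
    rcases mem_insert.1 ht with h1 | h1 <;> rcases mem_insert.1 hu with h2 | h2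
    · rw [h1, h2]; exact hss
    · rw [h1]; exact hp u h2
    · rw [h2, Finset.inter_comm]; exact hp t h1
    · exact h.2 t h1 u h2

theorem mem_of_max {F : Finset (Finset α)} (h : Maximal DE F) {s : Finset α} (hs : 4 ∣ s.card)
    (hp : ∀ t ∈ F, Even (s ∩ t).card) : s ∈ F :=
  h.le_of_ge (de_insert h.1 hs hp) (Finset.subset_insert _ _) (mem_insert_self _ _)

theorem closed_of_max {F : Finset (Finset α)} (h : Maximal DE F) : Closed F where
  zero := mem_of_max h (by simp) (by simp)
  add := by
    intro s hs t ht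
    apply mem_of_max h
    · have h1 := card_sd s t
      have h2 := h.1.1 s hs
      have h3 := h.1.1 t ht
      have h4 := h.1.2 s hs t ht
      rw [Nat.even_iff] at h4; omega
    · intro u hu
      exact even_sd (h.1.2 s hs u hu) (h.1.2 t ht u hu)

theorem gauss_univ (hα : Fintype.card α = 24) :
    ∑ v : Finset α, (Complex.I : ℂ) ^ v.card = 4096 := by
  have := Fintype.sum_pow_mul_eq_add_pow α (Complex.I : ℂ) 1
  simp only [one_pow, mul_one] at this
  rw [this, hα]
  have h2 : (Complex.I + 1) ^ 2 = 2 * Complex.I := by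
    ring_nf; rw [Complex.I_sq]; ring
  calc (Complex.I + 1) ^ 24 = ((Complex.I + 1) ^ 2) ^ 12 := by ring
    _ = (2 * Complex.I) ^ 12 := by rw [h2]
    _ = 4096 * (Complex.I ^ 4) ^ 3 := by ring
    _ = 4096 := by rw [Complex.I_pow_four]; ring

theorem I_pow_sd {v e : Finset α} (he : 4 ∣ e.card) :
    (Complex.I : ℂ) ^ (symmDiff e v).card = Complex.I ^ v.card * (((-1 : ℤ) ^ (e ∩ v).card : ℤ) : ℂ) := by
  have h1 := card_sd e v
  obtain ⟨k, hk⟩ := he
  have h2 : (Complex.I : ℂ) ^ ((symmDiff e v).card + 2 * (e ∩ v).card) = Complex.I ^ v.card := by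
    rw [h1, hk, pow_add, pow_mul, Complex.I_pow_four, one_pow, one_mul]
  rw [pow_add, pow_mul, Complex.I_sq] at h2
  rw [← h2, mul_assoc]
  push_cast
  rw [← mul_pow]; simp

/-- a maximal doubly even family on 24 points has 4096 members -/
theorem card_of_max (hα : Fintype.card α = 24) {F : Finset (Finset α)} (h : Maximal DE F) : F.card = 4096 := by
  have hcl := closed_of_max h
  have hFP : F ⊆ perp F := by
    intro s hs; rw [mem_perp]; intro c hc; exact h.1.2 s hs c hc
  have huniv : (Finset.univ : Finset α) ∈ F := by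
    apply mem_of_max h
    · rw [Finset.card_univ, hα]; decide
    · intro t ht; rw [Finset.univ_inter]
      obtain ⟨k, hk⟩ := h.1.1 t ht; exact ⟨2 * k, by omega⟩
  have hval : ∀ v ∈ perp F, (Complex.I : ℂ) ^ v.card = if v ∈ F then 1 else -1 := by
    intro v hv
    have hev : Even v.card := by
      have := mem_perp.1 hv _ huniv
      rwa [Finset.inter_univ] at this
    split_ifs with hvF
    · obtain ⟨k, hk⟩ := h.1.1 v hvF
      rw [hk, pow_mul, Complex.I_pow_four, one_pow]
    · have h4 : ¬ 4 ∣ v.card := fun h4 => hvF (mem_of_max h h4 (mem_perp.1 hv))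
      obtain ⟨k, hk⟩ := hev
      have : v.card = 4 * (v.card / 4) + 2 := by omega
      rw [this, pow_add, pow_mul, Complex.I_pow_four, one_pow, Complex.I_sq, one_mul]
  have h1 : ∑ e ∈ F, ∑ v : Finset α, (Complex.I : ℂ) ^ (symmDiff e v).card = F.card * 4096 := by
    have : ∀ e ∈ F, ∑ v : Finset α, (Complex.I : ℂ) ^ (symmDiff e v).card = 4096 := by
      intro e _
      rw [← gauss_univ hα]
      refine Finset.sum_bij' (fun v _ => symmDiff e v) (fun v _ => symmDiff e v) (fun _ _ => mem_univ _)
        (fun _ _ => mem_univ _) ?_ ?_ ?_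
      · intro v _; exact symmDiff_symmDiff_cancel_left e v
      · intro v _; exact symmDiff_symmDiff_cancel_left e v
      · intro v _; rfl
    rw [Finset.sum_congr rfl this, Finset.sum_const, nsmul_eq_mul]
  have h2 : ∑ e ∈ F, ∑ v : Finset α, (Complex.I : ℂ) ^ (symmDiff e v).card =
      F.card * ∑ v ∈ perp F, (Complex.I : ℂ) ^ v.card := by
    rw [Finset.sum_comm]
    have : ∀ v : Finset α, ∑ e ∈ F, (Complex.I : ℂ) ^ (symmDiff e v).card =
        if v ∈ perp F then (F.card : ℂ) * Complex.I ^ v.card else 0 := by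
      intro v
      rw [Finset.sum_congr rfl (fun e he => I_pow_sd (v := v) (h.1.1 e he)), ← Finset.mul_sum]
      rw [← Int.cast_sum, char_sum hcl v]
      split_ifs
      · push_cast; ring
      · simp
    rw [Finset.sum_congr rfl (fun v _ => this v), ← Finset.sum_filter, Finset.mul_sum]
    apply Finset.sum_congr
    · ext v; simp
    · intro _ _; rfl
  have h0 : (F.card : ℂ) ≠ 0 := by
    have : F.Nonempty := ⟨_, hcl.zero⟩
    exact_mod_cast (Finset.card_pos.2 this).ne'
  have h3 : ∑ v ∈ perp F, (Complex.I : ℂ) ^ v.card = 4096 := by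
    rw [h1] at h2
    exact (mul_left_cancel₀ h0 h2).symm
  rw [Finset.sum_congr rfl hval, Finset.sum_ite, Finset.sum_const, Finset.sum_const] at h3
  have h4 : (perp F).filter (fun v => v ∈ F) = F := by
    ext v; simp only [mem_filter]; exact ⟨fun h => h.2, fun h => ⟨hFP h, h⟩⟩
  have h5 : ((perp F).filter (fun v => ¬ v ∈ F)).card = (perp F).card - F.card := by
    have := Finset.card_filter_add_card_filter_not (s := perp F) (fun v => v ∈ F)
    rw [h4] at this; omega
  have h6 : F.card ≤ (perp F).card := Finset.card_le_card hFP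
  rw [h4, h5] at h3
  simp only [nsmul_eq_mul, mul_one, mul_neg] at h3
  rw [Nat.cast_sub h6] at h3
  have h7 : (2 * F.card : ℂ) = ((4096 + (perp F).card : ℕ) : ℂ) := by push_cast; linear_combination h3
  have h8 : 2 * F.card = 4096 + (perp F).card := by exact_mod_cast h7
  have h9 := card_mul_perp hcl
  rw [hα] at h9
  have h10 : (perp F).card = 2 * F.card - 4096 := by omega
  have h11 : 4096 ≤ 2 * F.card := by omega
  zify [h11] at h9 h10
  rw [h10] at h9
  have h12 : ((F.card : ℤ) - 4096) * (F.card + 2048) = 0 := by nlinarith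
  rcases mul_eq_zero.1 h12 with h | h
  · omega
  · omega

end Cfsg.Agent.Lib.GolU
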