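import Cfsg.Agent.Lib.GolU.Leaders
import Mathlib.LinearAlgebra.FiniteDimensional.Defs
import Mathlib.FieldTheory.Finiteness

/-!
Submodules of `α → ZMod 2` as families of sets.
-/

set_option autoImplicit false

namespace Cfsg.Agent.Lib.GolU

open Cfsg Finset

variable {α : Type*} [Fintype α] [DecidableEq α]

def ind (s : Finset α) : α → ZMod 2 := fun i => if i ∈ s then 1 else 0

theorem z2 (a : ZMod 2) : a = 0 ∨ a = 1 := by revert a; decide

theorem ind_supp (w : α → ZMod 2) : ind (support₂ w) = w := by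
  funext i
  unfold ind support₂
  simp only [mem_filter, mem_univ, true_and]
  rcases z2 (w i) with h | h <;> rw [h] <;> decide

theorem supp_ind (s : Finset α) : support₂ (ind s) = s := by
  ext i
  unfold ind support₂
  simp

theorem mem_supp (w : α → ZMod 2) (i : α) : i ∈ support₂ w ↔ w i = 1 := by
  unfold support₂
  simp only [mem_filter, mem_univ, true_and]
  rcases z2 (w i) with h | h <;> rw [h] <;> decide

theorem supp_inj {v w : α → ZMod 2} (h : support₂ v = support₂ w) : v = w := by
  rw [← ind_supp v, ← ind_supp w, h]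

theorem ind_inj {s t : Finset α} (h : ind s = ind t) : s = t := by
  rw [← supp_ind s, ← supp_ind t, h]

theorem ind_sd (s t : Finset α) : ind (symmDiff s t) = ind s + ind t := by
  funext i
  unfold ind
  simp only [Pi.add_apply, mem_symmDiff]
  by_cases h1 : i ∈ s <;> by_cases h2 : i ∈ t <;> simp [h1, h2] <;> decide

theorem supp_add (v w : α → ZMod 2) : support₂ (v + w) = symmDiff (support₂ v) (support₂ w) := by
  apply ind_inj
  rw [ind_sd, ind_supp, ind_supp, ind_supp]

theorem neg_eq_self' (v : α → ZMod 2) : -v = v := by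
  funext i
  simp only [Pi.neg_apply]
  rcases z2 (v i) with h | h <;> rw [h] <;> decide

theorem supp_sub' (v w : α → ZMod 2) : support₂ (v - w) = symmDiff (support₂ v) (support₂ w) := by
  rw [sub_eq_add_neg, neg_eq_self', supp_add]

theorem supp_zero : support₂ (0 : α → ZMod 2) = ∅ := by
  ext i; simp [support₂]

theorem ind_empty : ind (∅ : Finset α) = 0 := by funext i; simp [ind]

theorem hamming_eq' (v : α → ZMod 2) : hammingNorm v = (support₂ v).card := rfl

theorem sum_mul_ind (s t : Finset α) : ∑ i, ind s i * ind t i = ((s ∩ t).card : ZMod 2) := by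
  have : ∀ i, ind s i * ind t i = if i ∈ s ∩ t then (1 : ZMod 2) else 0 := by
    intro i; unfold ind
    by_cases h1 : i ∈ s <;> by_cases h2 : i ∈ t <;> simp [h1, h2]
  rw [Finset.sum_congr rfl (fun i _ => this i), Finset.sum_ite_mem, Finset.univ_inter, Finset.sum_const]
  simp

theorem dot_zero_iff (v w : α → ZMod 2) : ∑ i, v i * w i = 0 ↔ Even (support₂ v ∩ support₂ w).card := by
  have := sum_mul_ind (support₂ v) (support₂ w)
  rw [ind_supp, ind_supp] at this
  rw [this, ZMod.natCast_eq_zero_iff, even_iff_two_dvd]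

noncomputable def fam (C : Submodule (ZMod 2) (α → ZMod 2)) : Finset (Finset α) := by
  classical
  exact Finset.univ.filter (fun s => ind s ∈ C)

theorem mem_fam {C : Submodule (ZMod 2) (α → ZMod 2)} {s : Finset α} : s ∈ fam C ↔ ind s ∈ C := by
  simp [fam]

theorem supp_mem_fam {C : Submodule (ZMod 2) (α → ZMod 2)} {w : α → ZMod 2} : support₂ w ∈ fam C ↔ w ∈ C := by
  rw [mem_fam, ind_supp]

theorem fam_closed (C : Submodule (ZMod 2) (α → ZMod 2)) : Closed (fam C) where
  zero := by rw [mem_fam, ind_empty]; exact C.zero_mem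
  add := by
    intro s hs t ht
    rw [mem_fam] at hs ht ⊢
    rw [ind_sd]; exact C.add_mem hs ht

theorem card_fam (C : Submodule (ZMod 2) (α → ZMod 2)) : (fam C).card = 2 ^ Module.finrank (ZMod 2) C := by
  have h1 : (fam C).card = Nat.card C := by
    rw [← Nat.card_eq_finsetCard]
    refine Nat.card_congr ⟨fun s => ⟨ind s.1, mem_fam.1 s.2⟩, fun v => ⟨support₂ v.1, supp_mem_fam.2 v.2⟩, ?_, ?_⟩
    · intro s; exact Subtype.ext (supp_ind _)
    · intro v; exact Subtype.ext (ind_supp _)
  rw [h1, Module.natCard_eq_pow_finrank (K := ZMod 2), Nat.card_zmod]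

theorem fam_GF (hα : Fintype.card α = 24) {C : Submodule (ZMod 2) (α → ZMod 2)}
    (hdim : Module.finrank (ZMod 2) C = 12) (hmin : ∀ w ∈ C, w ≠ 0 → 8 ≤ hammingNorm w) : GF (fam C) := by
  refine GF.mk (fam_closed C) hα (by rw [card_fam, hdim]; norm_num) ?_
  intro s hs h8
  rw [mem_fam] at hs
  by_contra h0
  have h1 : ind s ≠ 0 := by
    intro h; apply h0
    rw [← supp_ind s, h, supp_zero]
  have h2 := hmin _ hs h1
  rw [hamming_eq', supp_ind] at h2
  omega

theorem wordsOfWeight_eq (C : Submodule (ZMod 2) (α → ZMod 2)) :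
    wordsOfWeight (C : Set (α → ZMod 2)) 8 = octs (fam C) := by
  ext s
  unfold wordsOfWeight supports octs
  constructor
  · rintro ⟨⟨w, hw, rfl⟩, h8⟩
    exact ⟨supp_mem_fam.2 hw, h8⟩
  · rintro ⟨h1, h8⟩
    exact ⟨⟨ind s, mem_fam.1 h1, supp_ind s⟩, h8⟩

end Cfsg.Agent.Lib.GolU
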