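import Cfsg.Agent.Lib.GolU.Label
import Cfsg.Agent.Lib.Golay.Transport
import Cfsg.Agent.Lib.Golay.Sets
import Cfsg.Agent.Lib.Golay.Coset
import Cfsg.Agent.S0358

/-!
Steiner systems S(t, t+3, t+19), 2 ≤ t ≤ 5, inside Golay families.
-/

set_option autoImplicit false

namespace Cfsg.Agent.Lib.GolU

open Cfsg Finset
open Cfsg.Agent.Lib.Steiner

variable {α : Type*} [Fintype α] [DecidableEq α] {β : Type*} [Fintype β] [DecidableEq β]

theorem par_2_5_21 (hα : Fintype.card α = 21) {B : Set (Finset α)} (hB : IsSteinerSystem 2 5 B)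
    {b : Finset α} (hb : b ∈ B) : nn B b 0 = 0 ∧ nn B b 1 = 20 ∧ nn B b 2 = 0 ∧ nn B b 3 = 0 ∧
      nn B b 4 = 0 ∧ nn B b 5 = 1 := by
  obtain ⟨h8, h⟩ := nn_self hB (by norm_num) hb
  have h2 := h 2 (by norm_num) (by norm_num)
  have h3 := h 3 (by norm_num) (by norm_num)
  have h4 := h 4 (by norm_num) (by norm_num)
  have hbc := hB.1 b hb
  have e0 := moment hB b (j := 0) (by norm_num)
  have e1 := moment hB b (j := 1) (by norm_num)
  simp only [hα, hbc, Finset.sum_range_succ, Finset.sum_range_zero, h2, h3, h4, h8, Nat.choose] at e0 e1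
  omega

theorem even_ext {t : ℕ} (h2 : 2 ≤ t) (h5 : t ≤ 5) (hα : Fintype.card α = t + 19) {B : Set (Finset α)}
    (hB : IsSteinerSystem t (t + 3) B) {b c : Finset α} (hb : b ∈ B) (hc : c ∈ B) :
    Even ((b ∩ c).card + (5 - t)) := by
  by_cases hbc : b = c
  · subst hbc; rw [Finset.inter_self, hB.1 b hb]
    rw [Nat.even_iff]; omega
  · have hlt : (b ∩ c).card < t := by
      by_contra h
      exact hbc (block_eq hB hb hc (by omega))
    interval_cases t
    · obtain ⟨h0, _⟩ := par_2_5_21 hα hB hc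
      have := nn_zero_iff h0 hb
      rw [Nat.even_iff]; omega
    · obtain ⟨_, h1, _⟩ := par_3_6_22 hα hB hc
      have := nn_zero_iff h1 hb
      rw [Nat.even_iff]; omega
    · obtain ⟨h0, _, h1, _⟩ := par_4_7_23 hα hB hc
      have := nn_zero_iff h1 hb
      have := nn_zero_iff h0 hb
      rw [Nat.even_iff]; omega
    · obtain ⟨_, h1, _, h3, _⟩ := par_5_8_24 hα hB hc
      have := nn_zero_iff h1 hb
      have := nn_zero_iff h3 hb
      rw [Nat.even_iff]; omega

theorem sum_through {t k : ℕ} (ht : 1 ≤ t) {B : Set (Finset α)} (hB : IsSteinerSystem t k B) {T : Finset α}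
    (hT : T.card = t - 1) {S : Finset α} (hd : Disjoint S T) :
    ∑ b ∈ (blk B).filter (fun b => T ⊆ b), (b ∩ S).card = S.card := by
  have h1 := Finset.sum_card_bipartiteAbove_eq_sum_card_bipartiteBelow (fun (b : Finset α) (x : α) => x ∈ b)
    (s := (blk B).filter (fun b => T ⊆ b)) (t := S)
  have h2 : ∀ b ∈ (blk B).filter (fun b => T ⊆ b),
      (Finset.bipartiteAbove (fun (b : Finset α) (x : α) => x ∈ b) S b).card = (b ∩ S).card := by
    intro b _
    congr 1
    ext x
    simp only [Finset.bipartiteAbove, mem_filter, mem_inter]; tauto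
  have h3 : ∀ x ∈ S, (Finset.bipartiteBelow (fun (b : Finset α) (x : α) => x ∈ b)
      ((blk B).filter (fun b => T ⊆ b)) x).card = 1 := by
    intro x hx
    have hxT : x ∉ T := Finset.disjoint_left.1 hd hx
    obtain ⟨b, ⟨hb1, hb2⟩, hb3⟩ := hB.2 (insert x T) (by rw [Finset.card_insert_of_notMem hxT]; omega)
    rw [Finset.card_eq_one]
    refine ⟨b, ?_⟩
    ext c
    simp only [Finset.bipartiteBelow, mem_filter, mem_singleton, mem_blk]
    constructor
    · rintro ⟨⟨h4, h6⟩, h5⟩; exact hb3 c ⟨h4, Finset.insert_subset h5 h6⟩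
    · rintro rfl
      exact ⟨⟨hb1, (Finset.subset_insert _ _).trans hb2⟩, hb2 (mem_insert_self _ _)⟩
  rw [Finset.sum_congr rfl h2, Finset.sum_congr rfl h3] at h1
  rw [h1]; simp

theorem no_small {t : ℕ} (h2 : 2 ≤ t) (h5 : t ≤ 5) (hα : Fintype.card α = t + 19) {B : Set (Finset α)}
    (hB : IsSteinerSystem t (t + 3) B) {S : Finset α} (hS : S.card ≤ 4) {ε : ℕ}
    (h : ∀ b ∈ B, Even ((b ∩ S).card + ε)) : S = ∅ ∧ Even ε := by
  by_contra hcon
  have hSc : Sᶜ.card = t + 19 - S.card := by rw [Finset.card_compl, hα]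
  obtain ⟨T, hT, hodd⟩ : ∃ T : Finset α, T.card = t - 1 ∧ ¬ Even ((T ∩ S).card + ε) := by
    by_cases hε : Even ε
    · have hS0 : S ≠ ∅ := fun h0 => hcon ⟨h0, hε⟩
      obtain ⟨x, hx⟩ := Finset.nonempty_iff_ne_empty.2 hS0
      obtain ⟨T0, hT0, hT0c⟩ := Finset.exists_subset_card_eq (show t - 2 ≤ Sᶜ.card by omega)
      have hxT0 : x ∉ T0 := fun hh => (mem_compl.1 (hT0 hh)) hx
      refine ⟨insert x T0, by rw [Finset.card_insert_of_notMem hxT0]; omega, ?_⟩
      have : insert x T0 ∩ S = {x} := by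
        ext y
        simp only [mem_inter, mem_insert, mem_singleton]
        constructor
        · rintro ⟨h3 | h3, h4⟩
          · exact h3
          · exact absurd h4 (mem_compl.1 (hT0 h3))
        · rintro rfl; exact ⟨Or.inl rfl, hx⟩
      rw [this, Finset.card_singleton, Nat.even_iff]
      rw [Nat.even_iff] at hε; omega
    · obtain ⟨T, hT, hTc⟩ := Finset.exists_subset_card_eq (show t - 1 ≤ Sᶜ.card by omega)
      refine ⟨T, hTc, ?_⟩
      have : T ∩ S = ∅ := by
        rw [← Finset.disjoint_iff_inter_eq_empty, Finset.disjoint_left]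
        intro x hx; exact mem_compl.1 (hT hx)
      rw [this, Finset.card_empty, zero_add]; exact hε
  have hcount := card_through hB (P := T) (by omega)
  rw [hT, hα, show t + 3 - (t - 1) = 4 by omega, show t - (t - 1) = 1 by omega, show t + 19 - (t - 1) = 20 by omega,
    Nat.choose_one_right, Nat.choose_one_right] at hcount
  have hsum := sum_through (by omega : 1 ≤ t) hB hT (S := S \ T) Finset.sdiff_disjoint
  have h1 : ∀ b ∈ (blk B).filter (fun b => T ⊆ b), 1 ≤ (b ∩ (S \ T)).card := by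
    intro b hb
    rw [mem_filter, mem_blk] at hb
    have h3 := h b hb.1
    have h4 : (b ∩ S).card = (T ∩ S).card + (b ∩ (S \ T)).card := by
      rw [← Finset.card_union_of_disjoint]
      · congr 1
        ext x
        simp only [mem_inter, mem_union, mem_sdiff]
        have := @hb.2 x
        tauto
      · rw [Finset.disjoint_left]
        intro x hx hx'
        simp only [mem_inter, mem_sdiff] at hx hx'
        exact hx'.2.2 hx.1
    by_contra h0
    apply hodd
    rw [h4] at h3
    have : (b ∩ (S \ T)).card = 0 := by omega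
    rwa [this, add_zero] at h3
  have h6 := Finset.card_nsmul_le_sum _ _ 1 h1
  rw [hsum, smul_eq_mul, mul_one] at h6
  have h7 := Finset.card_le_card (Finset.sdiff_subset (s := S) (t := T))
  omega

/-- the extension of a block -/
def exb {t : ℕ} (b : Finset α) : Finset (α ⊕ Fin (5 - t)) := b.disjSum (Finset.univ : Finset (Fin (5 - t)))

theorem card_exb {t : ℕ} (b : Finset α) : (exb (t := t) b).card = b.card + (5 - t) := by
  rw [exb, Finset.card_disjSum]; simp

theorem exb_inter {t : ℕ} (b : Finset α) (s : Finset (α ⊕ Fin (5 - t))) :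
    (s ∩ exb b).card = (b ∩ s.toLeft).card + s.toRight.card := by
  conv_lhs => rw [← ds_eta s, exb, ds_inter, Finset.card_disjSum]
  rw [Finset.inter_univ, Finset.inter_comm]

theorem exists_small_perp {t : ℕ} (h2 : 2 ≤ t) (h5 : t ≤ 5) (hα : Fintype.card α = t + 19) {B : Set (Finset α)}
    (hB : IsSteinerSystem t (t + 3) B) {s : Finset (α ⊕ Fin (5 - t))} (hs : s.card ≤ 4)
    (h : ∀ b ∈ B, Even (s ∩ exb b).card) : s.toLeft = ∅ ∧ Even s.toRight.card := by
  apply no_small h2 h5 hα hB
  · exact (Finset.card_toLeft_le).trans hs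
  · intro b hb
    have := h b hb
    rwa [exb_inter] at this

theorem ext_code {t : ℕ} (h2 : 2 ≤ t) (h5 : t ≤ 5) (hα : Fintype.card α = t + 19) {B : Set (Finset α)}
    (hB : IsSteinerSystem t (t + 3) B) : ∃ W : Finset (Finset (α ⊕ Fin (5 - t))), GF W ∧
      ∀ b, b ∈ B ↔ b.card = t + 3 ∧ exb b ∈ W := by
  have hcard : Fintype.card (α ⊕ Fin (5 - t)) = 24 := by
    rw [Fintype.card_sum, hα, Fintype.card_fin]; omega
  have hDE : DE ((blk B).image (exb (t := t))) := by
    refine ⟨?_, ?_⟩
    · intro s hs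
      rw [mem_image] at hs
      obtain ⟨b, hb, rfl⟩ := hs
      rw [mem_blk] at hb
      rw [card_exb, hB.1 b hb]
      exact ⟨2, by omega⟩
    · intro s hs s' hs'
      rw [mem_image] at hs hs'
      obtain ⟨b, hb, rfl⟩ := hs
      obtain ⟨b', hb', rfl⟩ := hs'
      rw [mem_blk] at hb hb'
      have := even_ext h2 h5 hα hB hb hb'
      rw [exb, exb, ds_inter, Finset.card_disjSum]
      simpa using this
  obtain ⟨W, hsub, hW⟩ := exists_GF hcard hDE (by
    intro s hs h
    have h3 := exists_small_perp h2 h5 hα hB hs.le (fun b hb => h _ (mem_image_of_mem _ (mem_blk.2 hb)))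
    have h4 : s.card = s.toLeft.card + s.toRight.card := by
      conv_lhs => rw [← ds_eta s, Finset.card_disjSum]
    have h6 := Finset.card_le_univ s.toRight
    rw [h3.1, Finset.card_empty] at h4
    rw [Fintype.card_fin] at h6
    omega)
  refine ⟨W, hW, fun b => ⟨fun hb => ⟨hB.1 b hb, hsub (mem_image_of_mem _ (mem_blk.2 hb))⟩, ?_⟩⟩
  rintro ⟨hbc, hb⟩
  obtain ⟨s, hsb, hs⟩ := Finset.exists_subset_card_eq (show t ≤ b.card by omega)
  obtain ⟨b', ⟨hb'1, hb'2⟩, _⟩ := hB.2 s hs
  have h3 := hW.add _ hb _ (hsub (mem_image_of_mem _ (mem_blk.2 hb'1)))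
  rw [exb, exb, ds_sd] at h3
  have h4 := hW.min _ h3 (by
    rw [Finset.card_disjSum, symmDiff_self]
    have h6 := card_sd b b'
    have h7 : t ≤ (b ∩ b').card := by rw [← hs]; exact Finset.card_le_card (Finset.subset_inter hsb hb'2)
    rw [hbc, hB.1 b' hb'1] at h6
    simp only [Finset.bot_eq_empty, Finset.card_empty, add_zero]
    omega)
  have h8 : symmDiff b b' = ∅ := by
    rw [Finset.eq_empty_iff_forall_notMem]
    intro x hx
    have : Sum.inl x ∈ (symmDiff b b').disjSum (symmDiff (Finset.univ : Finset (Fin (5 - t))) Finset.univ) :=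
      Finset.inl_mem_disjSum.2 hx
    rw [h4] at this
    exact absurd this (Finset.notMem_empty _)
  rw [symmDiff_eq_bot.1 h8]; exact hb'1

/-! ### the Golay code -/

noncomputable def golFam : Finset (Finset GolayPt) := fam golayCode

theorem mem_golFam {s : Finset GolayPt} : s ∈ golFam ↔ Golay.IsWord s := by
  rw [golFam, mem_fam, Golay.mem_golay_iff, supp_ind]

theorem golGF : GF golFam := by
  apply fam_GF Golay.card_golayPt Cfsg.Agent.S0358.result
  intro w hw h0
  rw [Golay.mem_golay_iff] at hw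
  by_contra h8
  rw [hamming_eq'] at h8
  have := Golay.word_small hw (by omega)
  apply h0
  rw [← ind_supp w, this, ind_empty]

/-- an equivalence fixing the right summand -/
theorem sum_restrict {κ : Type*} (F : α ⊕ κ ≃ β ⊕ κ) (hF : ∀ i, F (Sum.inr i) = Sum.inr i) :
    ∃ φ : α ≃ β, ∀ a, F (Sum.inl a) = Sum.inl (φ a) := by
  have h1 : ∀ a, ∃ b, F (Sum.inl a) = Sum.inl b := by
    intro a
    rcases hx : F (Sum.inl a) with b | i
    · exact ⟨b, rfl⟩
    · have := F.injective (hx.trans (hF i).symm)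
      exact absurd this (by simp)
  have h2 : ∀ b, ∃ a, F (Sum.inl a) = Sum.inl b := by
    intro b
    rcases hx : F.symm (Sum.inl b) with a | i
    · exact ⟨a, by rw [← hx, Equiv.apply_symm_apply]⟩
    · have : F (Sum.inr i) = Sum.inl b := by rw [← hx, Equiv.apply_symm_apply]
      rw [hF i] at this
      exact absurd this (by simp)
  choose φ hφ using h1
  choose ψ hψ using h2
  refine ⟨⟨φ, ψ, ?_, ?_⟩, hφ⟩
  · intro a
    have := hψ (φ a)
    rw [← hφ] at this
    have := F.injective this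
    simpa using this
  · intro b
    have h3 := hφ (ψ b)
    rw [hψ] at h3
    simpa using h3.symm

theorem map_exb {t : ℕ} (F : α ⊕ Fin (5 - t) ≃ β ⊕ Fin (5 - t)) {φ : α ≃ β} (hφ : ∀ a, F (Sum.inl a) = Sum.inl (φ a))
    (hF : ∀ i, F (Sum.inr i) = Sum.inr i) (b : Finset α) :
    (exb (t := t) b).map F.toEmbedding = exb (b.map φ.toEmbedding) := by
  ext x
  rw [mem_map_equiv]
  rcases x with x | i
  · have : F.symm (Sum.inl x) = Sum.inl (φ.symm x) := by
      rw [Equiv.symm_apply_eq, hφ, Equiv.apply_symm_apply]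
    rw [this]; simp [exb, mem_map_equiv]
  · have : F.symm (Sum.inr i) = Sum.inr i := by
      rw [Equiv.symm_apply_eq, hF]
    rw [this]; simp [exb]

/-- the embedding of a Steiner system in the Golay code -/
theorem exists_embed {t : ℕ} (h2 : 2 ≤ t) (h5 : t ≤ 5) (hα : Fintype.card α = t + 19) {B : Set (Finset α)}
    (hB : IsSteinerSystem t (t + 3) B) : ∃ f : α ⊕ Fin (5 - t) ≃ GolayPt,
      ∀ b, b ∈ B ↔ b.card = t + 3 ∧ Golay.IsWord ((exb b).map f.toEmbedding) := by
  obtain ⟨W, hW, hb⟩ := ext_code h2 h5 hα hB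
  obtain ⟨f, hf⟩ := hW.unique golGF
  exact ⟨f, fun b => by rw [hb, hf, mem_golFam]⟩

open scoped Pointwise in
theorem smul_eq_map (g : Equiv.Perm α) (s : Finset α) : g • s = s.map g.toEmbedding := by
  ext x
  rw [mem_map_equiv, Finset.mem_smul_finset]
  constructor
  · rintro ⟨y, hy, rfl⟩; simpa using hy
  · intro h; exact ⟨g.symm x, h, by simp⟩

open scoped Pointwise in
/-- two embeddings differ by an element of `M24` -/
theorem steiner_iso {t : ℕ} (h2 : 2 ≤ t) (h5 : t ≤ 5) (hα : Fintype.card α = t + 19) (hβ : Fintype.card β = t + 19)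
    {B : Set (Finset α)} {B' : Set (Finset β)}
    (hB : IsSteinerSystem t (t + 3) B) (hB' : IsSteinerSystem t (t + 3) B') : SetSystemIso B B' := by
  obtain ⟨f, hf⟩ := exists_embed h2 h5 hα hB
  obtain ⟨f', hf'⟩ := exists_embed h2 h5 hβ hB'
  have hx : ∀ (f : α ⊕ Fin (5 - t) ≃ GolayPt), ∀ i < 5 - t, ∀ j < i,
      (fun i => if h : i < 5 - t then f (Sum.inr ⟨i, h⟩) else none) j ≠
      (fun i => if h : i < 5 - t then f (Sum.inr ⟨i, h⟩) else none) i := by
    intro f i hi j hj
    simp only [hi, hj.trans hi, dif_pos]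
    intro h
    have := f.injective h
    simp only [Sum.inr.injEq, Fin.mk.injEq] at this
    omega
  have hy : ∀ (f : β ⊕ Fin (5 - t) ≃ GolayPt), ∀ i < 5 - t, ∀ j < i,
      (fun i => if h : i < 5 - t then f (Sum.inr ⟨i, h⟩) else none) j ≠
      (fun i => if h : i < 5 - t then f (Sum.inr ⟨i, h⟩) else none) i := by
    intro f i hi j hj
    simp only [hi, hj.trans hi, dif_pos]
    intro h
    have := f.injective h
    simp only [Sum.inr.injEq, Fin.mk.injEq] at this
    omega
  obtain ⟨g, hg, hgx⟩ := Golay.exists_map_le5 (by omega : 5 - t ≤ 5) (hx f) (hy f')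
  set F : α ⊕ Fin (5 - t) ≃ β ⊕ Fin (5 - t) := (f.trans g).trans f'.symm with hF
  have hFr : ∀ i, F (Sum.inr i) = Sum.inr i := by
    intro i
    have := hgx i.1 i.2
    simp only [i.2, dif_pos] at this
    rw [hF, Equiv.trans_apply, Equiv.trans_apply, Equiv.symm_apply_eq]
    exact this
  obtain ⟨φ, hφ⟩ := sum_restrict F hFr
  have key : ∀ b, b ∈ B ↔ b.map φ.toEmbedding ∈ B' := by
    intro b
    rw [hf, hf', Finset.card_map, ← map_exb F hφ hFr]
    have : ((exb b).map F.toEmbedding).map f'.toEmbedding = g • ((exb (t := t) b).map f.toEmbedding) := by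
      rw [smul_eq_map]
      ext x
      simp only [mem_map_equiv, hF, Equiv.symm_trans_apply, Equiv.symm_symm, Equiv.apply_symm_apply]
    rw [this]
    constructor
    · rintro ⟨h1, h3⟩; exact ⟨h1, Golay.IsWord.smul hg h3⟩
    · rintro ⟨h1, h3⟩
      refine ⟨h1, ?_⟩
      have := Golay.IsWord.smul (M24.inv_mem hg) h3
      rwa [inv_smul_smul] at this
  refine ⟨φ, ?_⟩
  ext c
  constructor
  · rintro ⟨b, hb, rfl⟩
    have := (key b).1 hb
    rwa [Finset.map_eq_image] at this
  · intro hc
    refine ⟨c.map φ.symm.toEmbedding, ?_, ?_⟩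
    · rw [key, map_map_symm]; exact hc
    · show (c.map φ.symm.toEmbedding).image φ = c
      have := map_map_symm φ c
      rwa [Finset.map_eq_image (s := c.map φ.symm.toEmbedding)] at this

end Cfsg.Agent.Lib.GolU
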