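import Mathlib

/-!
A simplicity criterion for a permutation group of degree 100 with subdegrees 1, 22, 77.
-/

set_option autoImplicit false

namespace Cfsg.Agent.Lib.GolU

open MulAction
open scoped Pointwise

/-- a set invariant under "being a union of orbits" -/
theorem rank3_orbit {G V : Type*} [Group G] [MulAction G V] [Finite V] (hV : Nat.card V = 100) [IsPretransitive G V] (v : V)
    (X Y : Set V) (hX : X.ncard = 22) (hY : Y.ncard = 77) (hvX : v ∉ X) (hvY : v ∉ Y) (hXY : Disjoint X Y)
    (hcov : ∀ u, u = v ∨ u ∈ X ∨ u ∈ Y)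
    (tX : ∀ x ∈ X, ∀ y ∈ X, ∃ s : G, s • v = v ∧ s • x = y) (tY : ∀ x ∈ Y, ∀ y ∈ Y, ∃ s : G, s • v = v ∧ s • x = y)
    (N : Subgroup G) [hN : N.Normal] : orbit N v = {v} ∨ orbit N v = Set.univ := by
  classical
  have hb := IsBlock.orbit_of_normal (N := N) (G := G) v
  have hd := hb.ncard_dvd_card ⟨v, mem_orbit_self v⟩
  rw [hV] at hd
  have hinv : ∀ s : G, s • v = v → ∀ x ∈ orbit N v, s • x ∈ orbit N v := by
    rintro s hs _ ⟨n, rfl⟩
    refine ⟨⟨s * n * s⁻¹, hN.conj_mem _ n.2 s⟩, ?_⟩
    show (s * n * s⁻¹) • v = s • ((n : G) • v)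
    rw [mul_smul, mul_smul]
    have : s⁻¹ • v = v := by rw [inv_smul_eq_iff, hs]
    rw [this]
  have hv : v ∈ orbit N v := mem_orbit_self v
  by_cases hx : ∃ x ∈ X, x ∈ orbit N v
  · have hXs : X ⊆ orbit N v := by
      intro y hy
      obtain ⟨x, hx, hxo⟩ := hx
      obtain ⟨s, hs, rfl⟩ := tX x hx y hy
      exact hinv s hs x hxo
    by_cases hy : ∃ x ∈ Y, x ∈ orbit N v
    · have hYs : Y ⊆ orbit N v := by
        intro y hy'
        obtain ⟨x, hx, hxo⟩ := hy
        obtain ⟨s, hs, rfl⟩ := tY x hx y hy'
        exact hinv s hs x hxo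
      right
      rw [Set.eq_univ_iff_forall]
      intro u
      rcases hcov u with rfl | h | h
      · exact hv
      · exact hXs h
      · exact hYs h
    · exfalso
      have : orbit N v = insert v X := by
        apply Set.Subset.antisymm
        · intro u hu
          rcases hcov u with rfl | h | h
          · exact Set.mem_insert _ _
          · exact Set.mem_insert_of_mem _ h
          · exact absurd ⟨u, h, hu⟩ hy
        · exact Set.insert_subset hv hXs
      rw [this, Set.ncard_insert_of_notMem hvX, hX] at hd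
      exact absurd hd (by norm_num)
  · by_cases hy : ∃ x ∈ Y, x ∈ orbit N v
    · have hYs : Y ⊆ orbit N v := by
        intro y hy'
        obtain ⟨x, hx, hxo⟩ := hy
        obtain ⟨s, hs, rfl⟩ := tY x hx y hy'
        exact hinv s hs x hxo
      exfalso
      have : orbit N v = insert v Y := by
        apply Set.Subset.antisymm
        · intro u hu
          rcases hcov u with rfl | h | h
          · exact Set.mem_insert _ _
          · exact absurd ⟨u, h, hu⟩ hx
          · exact Set.mem_insert_of_mem _ h
        · exact Set.insert_subset hv hYs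
      rw [this, Set.ncard_insert_of_notMem hvY, hY] at hd
      exact absurd hd (by norm_num)
    · left
      apply Set.Subset.antisymm
      · intro u hu
        rcases hcov u with rfl | h | h
        · rfl
        · exact absurd ⟨u, h, hu⟩ hx
        · exact absurd ⟨u, h, hu⟩ hy
      · rw [Set.singleton_subset_iff]; exact hv

theorem simple_rank3 {G V : Type*} [Group G] [Finite G] [MulAction G V] [FaithfulSMul G V] [Finite V] (hV : Nat.card V = 100)
    [IsPretransitive G V] (v : V) (hS : IsSimpleGroup (stabilizer G v))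
    (X Y : Set V) (hX : X.ncard = 22) (hY : Y.ncard = 77) (hvX : v ∉ X) (hvY : v ∉ Y) (hXY : Disjoint X Y)
    (hcov : ∀ u, u = v ∨ u ∈ X ∨ u ∈ Y)
    (tX : ∀ x ∈ X, ∀ y ∈ X, ∃ s : G, s • v = v ∧ s • x = y) (tY : ∀ x ∈ Y, ∀ y ∈ Y, ∃ s : G, s • v = v ∧ s • x = y) :
    IsSimpleGroup G := by
  classical
  have key : ∀ N : Subgroup G, N.Normal → N ≠ ⊥ → orbit N v = Set.univ := by
    intro N hN hne
    rcases rank3_orbit hV v X Y hX hY hvX hvY hXY hcov tX tY N with h | h
    · exfalso
      apply hne
      rw [eq_bot_iff]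
      intro n hn
      rw [Subgroup.mem_bot]
      apply FaithfulSMul.eq_of_smul_eq_smul (α := V)
      intro u
      obtain ⟨g, rfl⟩ := exists_smul_eq G v u
      rw [one_smul]
      have h1 : g⁻¹ * n * g ∈ N := by
        have := hN.conj_mem n hn g⁻¹
        rwa [inv_inv] at this
      have h2 : (g⁻¹ * n * g) • v ∈ orbit N v := ⟨⟨_, h1⟩, rfl⟩
      rw [h, Set.mem_singleton_iff, mul_smul, mul_smul, inv_smul_eq_iff] at h2
      exact h2
    · exact h
  have hcardOrb : ∀ N : Subgroup G, N.Normal → N ≠ ⊥ → 100 ∣ Nat.card N := by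
    intro N hN hne
    have h1 := key N hN hne
    have h2 := Nat.card_congr (MulAction.orbitProdStabilizerEquivGroup N v)
    rw [Nat.card_prod, h1, Nat.card_congr (Equiv.Set.univ V), hV] at h2
    exact ⟨_, h2.symm⟩
  have : Nontrivial G := by
    have : Nontrivial (stabilizer G v) := hS.toNontrivial
    exact (Subgroup.subtype_injective (stabilizer G v)).nontrivial
  refine ⟨fun N hN => ?_⟩
  by_cases hne : N = ⊥
  · exact Or.inl hne
  right
  have htr := key N hN hne
  have : (N.subgroupOf (stabilizer G v)).Normal := inferInstance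
  rcases hS.eq_bot_or_eq_top_of_normal (N.subgroupOf (stabilizer G v)) inferInstance with h | h
  · exfalso
    -- N is regular
    have hst : stabilizer N v = ⊥ := by
      rw [eq_bot_iff]
      intro n hn
      rw [Subgroup.mem_bot]
      have h1 : (⟨(n : G), hn⟩ : stabilizer G v) ∈ N.subgroupOf (stabilizer G v) := n.2
      rw [h, Subgroup.mem_bot] at h1
      have h2 := congrArg Subtype.val h1
      exact Subtype.ext h2
    have hcN : Nat.card N = 100 := by
      have h2 := Nat.card_congr (MulAction.orbitProdStabilizerEquivGroup N v)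
      rw [Nat.card_prod, htr, Nat.card_congr (Equiv.Set.univ V), hV, hst, Subgroup.card_bot] at h2
      exact h2.symm
    have h5p : Fact (Nat.Prime 5) := ⟨by norm_num⟩
    obtain ⟨P⟩ : Nonempty (Sylow 5 N) := inferInstance
    have hPc : Nat.card P = 25 := by
      rw [Sylow.card_eq_multiplicity, hcN]
      have : Nat.factorization 100 5 = 2 := by
        rw [Nat.factorization_def _ (by norm_num : Nat.Prime 5)]
        have : (100 : ℕ) = 5 ^ 2 * 4 := by norm_num
        rw [this, padicValNat.mul (by norm_num) (by norm_num), padicValNat.prime_pow]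
        rw [padicValNat.eq_zero_of_not_dvd (by norm_num)]
      rw [this]; norm_num
    have hn5 : Nat.card (Sylow 5 N) = 1 := by
      have h1 := P.card_dvd_index
      have h2 := Subgroup.card_mul_index (P : Subgroup N)
      have h3 : Nat.card (P : Subgroup N) = 25 := hPc
      rw [h3, hcN] at h2
      have h4 : (P : Subgroup N).index = 4 := by omega
      rw [h4] at h1
      have h5 := card_sylow_modEq_one 5 N
      have h6 : Nat.card (Sylow 5 N) ≤ 4 := Nat.le_of_dvd (by norm_num) h1
      unfold Nat.ModEq at h5
      interval_cases hc : Nat.card (Sylow 5 N) <;> simp_all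
    have : Subsingleton (Sylow 5 N) := (Nat.card_eq_one_iff_unique.1 hn5).1
    have hPn : (P : Subgroup N).Normal := Sylow.normal_of_subsingleton P
    have hchar := Sylow.characteristic_of_normal P hPn
    have hPG : ((P : Subgroup N).map N.subtype).Normal := ConjAct.normal_of_characteristic_of_normal
    have hcM : Nat.card ((P : Subgroup N).map N.subtype) = 25 := by
      rw [Subgroup.card_map_of_injective (Subgroup.subtype_injective N)]; exact hPc
    have := hcardOrb _ hPG (by
      intro h1
      rw [h1, Subgroup.card_bot] at hcM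
      omega)
    rw [hcM] at this
    exact absurd this (by norm_num)
  · rw [Subgroup.subgroupOf_eq_top] at h
    rw [eq_top_iff]
    intro g _
    have h1 : g • v ∈ orbit N v := by rw [htr]; exact Set.mem_univ _
    obtain ⟨n, hn⟩ := h1
    have h2 : (n : G)⁻¹ * g ∈ stabilizer G v := by
      rw [mem_stabilizer_iff, mul_smul, inv_smul_eq_iff]; exact hn.symm
    have h3 := N.mul_mem n.2 (h h2)
    rwa [mul_inv_cancel_left] at h3

end Cfsg.Agent.Lib.GolU
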