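import Cfsg.Agent.Lib.GolU.Srg3
import Cfsg.Agent.Lib.GolU.AutS
import Cfsg.Agent.Lib.GolU.Rank3
import Cfsg.Agent.Lib.Golay.FixCount

/-!
The automorphism group of the Higman–Sims graph.
-/

set_option autoImplicit false

namespace Cfsg.Agent.Lib.GolU

open Cfsg Finset
open Cfsg.Agent.Lib.Steiner
open scoped Pointwise

variable {α : Type*} [Fintype α] [DecidableEq α] {B : Set (Finset α)}

/-- vertices of the point-block graph -/
abbrev Vt (B : Set (Finset α)) : Type _ := Option (α ⊕ B)

/-- the induced map on vertices -/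
def hsF (g : setSystemAut B) : Vt B → Vt B
  | none => none
  | some (Sum.inl a) => some (Sum.inl (g.1 a))
  | some (Sum.inr b) => some (Sum.inr ⟨g.1 • (b : Finset α), mem_aut.1 g.2 _ b.2⟩)

theorem hsF_one (u : Vt B) : hsF (1 : setSystemAut B) u = u := by
  rcases u with _ | a | b
  · rfl
  · rfl
  · show some (Sum.inr (⟨(1 : Equiv.Perm α) • (b : Finset α), _⟩ : B)) = _
    congr 2
    exact Subtype.ext (one_smul _ _)

theorem hsF_mul (g h : setSystemAut B) (u : Vt B) : hsF (g * h) u = hsF g (hsF h u) := by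
  rcases u with _ | a | b
  · rfl
  · rfl
  · show some (Sum.inr (⟨(g.1 * h.1) • (b : Finset α), _⟩ : B)) = some (Sum.inr (⟨g.1 • (h.1 • (b : Finset α)), _⟩ : B))
    congr 2
    exact Subtype.ext (mul_smul _ _ _)

/-- the induced permutation of the vertices -/
def hsP : setSystemAut B →* Equiv.Perm (Vt B) where
  toFun g := ⟨hsF g, hsF g⁻¹, fun u => by rw [← hsF_mul, inv_mul_cancel, hsF_one],
    fun u => by rw [← hsF_mul, mul_inv_cancel, hsF_one]⟩
  map_one' := by ext1 u; exact hsF_one u
  map_mul' g h := by ext1 u; exact hsF_mul g h u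

theorem hsP_none (g : setSystemAut B) : hsP g none = none := rfl
theorem hsP_pt (g : setSystemAut B) (a : α) : hsP g (some (Sum.inl a)) = some (Sum.inl (g.1 a)) := rfl
theorem hsP_bl (g : setSystemAut B) (b : B) : hsP g (some (Sum.inr b)) =
    some (Sum.inr ⟨g.1 • (b : Finset α), mem_aut.1 g.2 _ b.2⟩) := rfl

theorem hsP_inj : Function.Injective (hsP (B := B)) := by
  intro g h hgh
  apply Subtype.ext
  ext a
  have := congrArg (fun σ : Equiv.Perm (Vt B) => σ (some (Sum.inl a))) hgh
  simp only [hsP_pt, Option.some.injEq, Sum.inl.injEq] at this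
  exact this

/-- the automorphism group of the graph as permutation group -/
def hsG (B : Set (Finset α)) : Subgroup (Equiv.Perm (Vt B)) where
  carrier := {σ | ∀ u w, (pointBlockGraph B).Adj (σ u) (σ w) ↔ (pointBlockGraph B).Adj u w}
  one_mem' := fun _ _ => Iff.rfl
  mul_mem' {σ τ} h1 h2 := fun u w => by
    rw [Equiv.Perm.mul_apply, Equiv.Perm.mul_apply, h1, h2]
  inv_mem' {σ} h := fun u w => by
    have e : ∀ x, σ (σ⁻¹ x) = x := fun x => σ.apply_symm_apply x
    have h1 := h (σ⁻¹ u) (σ⁻¹ w)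
    rw [e, e] at h1
    exact h1.symm

theorem mem_hsG {σ : Equiv.Perm (Vt B)} : σ ∈ hsG B ↔
    ∀ u w, (pointBlockGraph B).Adj (σ u) (σ w) ↔ (pointBlockGraph B).Adj u w := Iff.rfl

/-- graph automorphisms as permutations -/
def autE (B : Set (Finset α)) : (pointBlockGraph B ≃g pointBlockGraph B) ≃* hsG B where
  toFun φ := ⟨φ.toEquiv, fun _ _ => φ.map_rel_iff⟩
  invFun σ := ⟨σ.1, fun {u w} => σ.2 u w⟩
  left_inv _ := rfl
  right_inv _ := rfl
  map_mul' _ _ := rfl

theorem hsP_mem (g : setSystemAut B) : hsP g ∈ hsG B := by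
  intro u w
  rcases u with _ | a | b <;> rcases w with _ | a' | b'
  · exact ⟨fun h => absurd h adj_nn, fun h => absurd h adj_nn⟩
  · exact ⟨fun _ => adj_np _, fun _ => adj_np _⟩
  · exact ⟨fun h => absurd h (adj_nb _), fun h => absurd h (adj_nb _)⟩
  · exact ⟨fun _ => adj_pn _, fun _ => adj_pn _⟩
  · exact ⟨fun h => absurd h (adj_pp _ _), fun h => absurd h (adj_pp _ _)⟩
  · rw [hsP_pt, hsP_bl, adj_pb, adj_pb]; exact mem_smul_perm _ _ _
  · exact ⟨fun h => absurd h (adj_bn _), fun h => absurd h (adj_bn _)⟩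
  · rw [hsP_pt, hsP_bl, adj_bp, adj_bp]; exact mem_smul_perm _ _ _
  · rw [hsP_bl, hsP_bl, adj_bb, adj_bb]
    apply and_congr
    · rw [Ne, Ne, Subtype.mk_eq_mk, smul_left_cancel_iff, Subtype.ext_iff]
    · show Disjoint (g.1 • (b : Finset α)) (g.1 • (b' : Finset α)) ↔ _
      rw [Finset.disjoint_left, Finset.disjoint_left]
      constructor
      · intro h x hx hx'
        exact h ((mem_smul_perm g.1 _ x).2 hx) ((mem_smul_perm g.1 _ x).2 hx')
      · intro h x hx hx'
        obtain ⟨y, rfl⟩ := g.1.surjective x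
        exact h ((mem_smul_perm g.1 _ y).1 hx) ((mem_smul_perm g.1 _ y).1 hx')

/-- the automorphisms fixing the extra vertex -/
theorem exists_hsP {σ : Equiv.Perm (Vt B)} (hσ : σ ∈ hsG B) (h0 : σ none = none) : ∃ g, hsP g = σ := by
  have hpt : ∀ τ : Equiv.Perm (Vt B), τ ∈ hsG B → τ none = none → ∀ a, ∃ a', τ (some (Sum.inl a)) = some (Sum.inl a') := by
    intro τ hτ h0 a
    have h1 := (hτ none (some (Sum.inl a))).2 (adj_np a)
    rw [h0] at h1
    rcases h2 : τ (some (Sum.inl a)) with _ | a' | b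
    · rw [h2] at h1; exact absurd h1 adj_nn
    · exact ⟨a', rfl⟩
    · rw [h2] at h1; exact absurd h1 (adj_nb b)
  have hbl : ∀ τ : Equiv.Perm (Vt B), τ ∈ hsG B → τ none = none → ∀ b, ∃ b', τ (some (Sum.inr b)) = some (Sum.inr b') := by
    intro τ hτ h0 b
    have h1 := mt (hτ none (some (Sum.inr b))).1 (adj_nb b)
    rw [h0] at h1
    rcases h2 : τ (some (Sum.inr b)) with _ | a' | b'
    · exfalso
      rw [← h0] at h2
      have := τ.injective h2
      simp at this
    · rw [h2] at h1; exact absurd (adj_np a') h1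
    · exact ⟨b', rfl⟩
  choose e he using hpt σ hσ h0
  choose f hf using hbl σ hσ h0
  have heinj : Function.Injective e := by
    intro a a' haa
    have h1 : σ (some (Sum.inl a)) = σ (some (Sum.inl a')) := by rw [he, he, haa]
    have := σ.injective h1
    simpa using this
  let E : Equiv.Perm α := Equiv.ofBijective e (Finite.injective_iff_bijective.1 heinj)
  have hE : ∀ a, E a = e a := fun _ => rfl
  have hfb : ∀ b, ((f b : B) : Finset α) = E • (b : Finset α) := by
    intro b
    ext x
    obtain ⟨y, rfl⟩ := E.surjective x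
    rw [mem_smul_perm, hE]
    have h1 := hσ (some (Sum.inl y)) (some (Sum.inr b))
    rw [he, hf, adj_pb, adj_pb] at h1
    exact h1
  have hmem : E ∈ setSystemAut B := by
    rw [mem_aut]
    intro b hb
    have := hfb ⟨b, hb⟩
    rw [← this]; exact (f ⟨b, hb⟩).2
  refine ⟨⟨E, hmem⟩, ?_⟩
  ext1 u
  rcases u with _ | a | b
  · rw [hsP_none, h0]
  · rw [hsP_pt, he]; rfl
  · rw [hsP_bl, hf]
    congr 2
    exact Subtype.ext (hfb b).symm

/-- the stabiliser of the extra vertex in a subgroup of the automorphism group -/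
theorem trans_hsG (hα : Fintype.card α = 22) (hB : IsSteinerSystem 3 6 B) (v w : Vt B) : ∃ σ ∈ hsG B, σ v = w := by
  classical
  have : Fintype B := Fintype.ofFinite B
  have : DecidableRel (pointBlockGraph B).Adj := Classical.decRel _
  have h1 := hsg_of (srg100 hα hB)
  obtain ⟨φ, hφ⟩ := hs_iso h1 h1 v w
  exact ⟨(autE B φ).1, (autE B φ).2, hφ⟩

theorem card_Vt (hα : Fintype.card α = 22) (hB : IsSteinerSystem 3 6 B) : Nat.card (Vt B) = 100 := by
  classical
  have : Fintype B := Fintype.ofFinite B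
  have : DecidableRel (pointBlockGraph B).Adj := Classical.decRel _
  rw [Nat.card_eq_fintype_card]
  exact (srg100 hα hB).card

theorem card_blocks (hα : Fintype.card α = 22) (hB : IsSteinerSystem 3 6 B) : Nat.card B = 77 := by
  have h := card_Vt hα hB
  rw [Finite.card_option, Nat.card_sum, Nat.card_eq_fintype_card, hα] at h
  omega

/-- order of a transitive subgroup -/
theorem card_of_stab (hα : Fintype.card α = 22) (hB : IsSteinerSystem 3 6 B) (H : Subgroup (Equiv.Perm (Vt B)))
    (n : ℕ) (hn : Nat.card (MulAction.stabilizer H (none : Vt B)) = n) [MulAction.IsPretransitive H (Vt B)] :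
    Nat.card H = 100 * n := by
  have h2 := Nat.card_congr (MulAction.orbitProdStabilizerEquivGroup H (none : Vt B))
  rw [Nat.card_prod, MulAction.orbit_eq_univ, Nat.card_congr (Equiv.Set.univ _), card_Vt hα hB, hn] at h2
  exact h2.symm

/-- the stabiliser in `hsG` -/
noncomputable def stabE (B : Set (Finset α)) : setSystemAut B ≃* MulAction.stabilizer (hsG B) (none : Vt B) :=
  MulEquiv.ofBijective
    ({ toFun := fun g => ⟨⟨hsP g, hsP_mem g⟩, hsP_none g⟩
       map_one' := by apply Subtype.ext; apply Subtype.ext; exact map_one _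
       map_mul' := fun g h => by apply Subtype.ext; apply Subtype.ext; exact map_mul _ _ _ } :
        setSystemAut B →* MulAction.stabilizer (hsG B) (none : Vt B))
    ⟨fun g h hgh => hsP_inj (congrArg (fun x => x.1.1) hgh), fun σ => by
      obtain ⟨g, hg⟩ := exists_hsP σ.1.2 σ.2
      exact ⟨g, Subtype.ext (Subtype.ext hg)⟩⟩

theorem card_hsG (hα : Fintype.card α = 22) (hB : IsSteinerSystem 3 6 B) : Nat.card (hsG B) = 88704000 := by
  have : MulAction.IsPretransitive (hsG B) (Vt B) := ⟨fun v w => by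
    obtain ⟨σ, h1, h2⟩ := trans_hsG hα hB v w
    exact ⟨⟨σ, h1⟩, h2⟩⟩
  rw [card_of_stab hα hB (hsG B) 887040]
  rw [← Nat.card_congr (stabE B).toEquiv]
  exact (isM22_of hα hB).1

theorem card_aut_hs (hα : Fintype.card α = 22) (hB : IsSteinerSystem 3 6 B) :
    Nat.card (pointBlockGraph B ≃g pointBlockGraph B) = 88704000 := by
  rw [Nat.card_congr (autE B).toEquiv, card_hsG hα hB]

end Cfsg.Agent.Lib.GolU
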