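import Cfsg.Agent.Lib.GolU.HSAut

/-!
The index two subgroup of the automorphism group of the Higman–Sims graph.
-/

set_option autoImplicit false

namespace Cfsg.Agent.Lib.GolU

open Cfsg Finset
open Cfsg.Agent.Lib.Steiner
open scoped Pointwise

theorem oct_count_I1 : {o : Finset GolayPt | o ∈ octads ∧ Golay.pm Golay.cI1 • o = o ∧ Golay.pt 0 ∈ o}.ncard = 21 := by
  have h : Golay.countB (fun c => Golay.pc (Golay.comb c) == 8 && ((Golay.comb c).testBit 0 &&
    Golay.act Golay.cI1 (Golay.comb c) == Golay.comb c)) 0 12 = 21 := by decide +kernel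
  rw [← h, ← Golay.ncard_words_pred (F := fun s => s.card = 8 ∧ (Golay.pt 0 ∈ s ∧ Golay.pm Golay.cI1 • s = s))
    (f := fun w => Golay.pc w == 8 && (w.testBit 0 && Golay.act Golay.cI1 w == w))]
  · congr 1
    ext s
    constructor
    · rintro ⟨h1, h2, h3⟩; exact ⟨(Golay.mem_octads.1 h1).1, (Golay.mem_octads.1 h1).2, h3, h2⟩
    · rintro ⟨h1, h2, h3, h4⟩; exact ⟨Golay.mem_octads.2 ⟨h1, h2⟩, h4, h3⟩
  · intro s
    have hv := Golay.pres_valid Golay.reps_pres.1
    have e1 : Golay.pt 0 ∈ s ↔ (Golay.mk s).testBit 0 = true := by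
      conv_lhs => rw [← Golay.st_mk s]
      rw [Golay.mem_st, Golay.ix_pt (by norm_num)]
    have e2 : Golay.pm Golay.cI1 • s = s ↔ Golay.act Golay.cI1 (Golay.mk s) = Golay.mk s := by
      rw [← Golay.mk_smul hv]
      constructor
      · intro h; rw [h]
      · intro h; rw [← Golay.st_mk (Golay.pm Golay.cI1 • s), h, Golay.st_mk]
    rw [Bool.and_eq_true, Bool.and_eq_true, beq_iff_eq, beq_iff_eq, Golay.card_eq_pc, e1, e2]

/-- an involution of `M24` interchanging two points -/
theorem exists_inv_swap {p q : GolayPt} (hpq : p ≠ q) : ∃ m ∈ M24, m * m = 1 ∧ m p = q ∧ m q = p ∧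
    {x | m x = x}.ncard = 8 ∧ {o : Finset GolayPt | o ∈ octads ∧ m • o = o ∧ p ∈ o}.ncard = 21 := by
  have hv := Golay.pres_valid Golay.reps_pres.1
  have h023 : Golay.pt 0 ≠ Golay.pt 23 := by decide
  obtain ⟨k, hk, hkp, hkq⟩ := Golay.exists_map_pair h023 hpq
  set t := Golay.pm Golay.cI1 with ht
  have htm : t ∈ M24 := Golay.pm_mem_M24 Golay.reps_pres.1
  have ht2 : t * t = 1 := by rw [ht, Golay.sq_iff hv]; decide +kernel
  have ht0 : t (Golay.pt 0) = Golay.pt 23 := by
    rw [ht, Golay.pm_pt hv (by norm_num)]; congr 1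
  have ht23 : t (Golay.pt 23) = Golay.pt 0 := by
    rw [ht, Golay.pm_pt hv (by norm_num)]; congr 1
  have hkm : ∀ x, k⁻¹ (k x) = x := fun x => k.symm_apply_apply x
  have hmk : ∀ x, k (k⁻¹ x) = x := fun x => k.apply_symm_apply x
  have h1 : ∀ x, (k * t * k⁻¹) (k x) = k (t x) := by
    intro x; show k (t (k⁻¹ (k x))) = _; rw [hkm]
  refine ⟨k * t * k⁻¹, Golay.conj_mem hk htm, ?_, ?_, ?_, ?_, ?_⟩
  · have : k * t * k⁻¹ * (k * t * k⁻¹) = k * (t * t) * k⁻¹ := by group
    rw [this, ht2]; group
  · rw [← hkp, h1, ht0, hkq]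
  · rw [← hkq, h1, ht23, hkp]
  · have h2 := Golay.nfix_conj k t
    rw [Golay.nfix_reps.1] at h2
    rw [← h2, Golay.nfix, ← Set.ncard_coe_finset]
    congr 1
    ext x
    rw [Finset.mem_coe, Finset.mem_filter]
    exact ⟨fun h => ⟨mem_univ _, h⟩, fun h => h.2⟩
  · rw [← oct_count_I1]
    have : {o : Finset GolayPt | o ∈ octads ∧ (k * t * k⁻¹) • o = o ∧ p ∈ o} =
        (fun o => k • o) '' {o : Finset GolayPt | o ∈ octads ∧ t • o = o ∧ Golay.pt 0 ∈ o} := by
      ext o
      constructor
      · rintro ⟨h2, h3, h4⟩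
        refine ⟨k⁻¹ • o, ⟨Golay.smul_mem_octads (M24.inv_mem hk) h2, ?_, ?_⟩, smul_inv_smul k o⟩
        · rw [mul_smul, mul_smul] at h3
          rw [eq_inv_smul_iff]; exact h3
        · rw [← mem_smul_perm k, smul_inv_smul, hkp]; exact h4
      · rintro ⟨o, ⟨h2, h3, h4⟩, rfl⟩
        refine ⟨Golay.smul_mem_octads hk h2, ?_, ?_⟩
        · show (k * t * k⁻¹) • k • o = k • o
          rw [mul_smul, mul_smul, inv_smul_smul, h3]
        · show p ∈ k • o
          rw [← hkp, mem_smul_perm]; exact h4
    rw [this, Set.ncard_image_of_injective _ (MulAction.injective k)]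

variable {α : Type*} [Fintype α] [DecidableEq α] {B : Set (Finset α)}

theorem exists_odd (hα : Fintype.card α = 22) (hB : IsSteinerSystem 3 6 B) {f : α ⊕ Fin (5 - 3) ≃ GolayPt}
    (hf : ∀ b, b ∈ B ↔ b.card = 3 + 3 ∧ Golay.IsWord (eb f b)) [Fintype (Vt B)] [DecidableEq (Vt B)] :
    ∃ g : setSystemAut B, Equiv.Perm.sign (hsP g) = -1 := by
  classical
  set p := f (Sum.inr 0) with hp
  set q := f (Sum.inr 1) with hq
  have hpq : p ≠ q := by
    intro h
    have := f.injective h
    simp at this
  obtain ⟨m, hm, hm2, hmp, hmq, hc8, hc21⟩ := exists_inv_swap hpq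
  have hsw : Equiv.swap p q * m = m * Equiv.swap p q := by
    rw [Equiv.mul_swap_eq_swap_mul, hmp, hmq, Equiv.swap_comm]
  obtain ⟨g, hg⟩ := exists_Psi f (m := Equiv.swap p q * m) (by
    intro i
    have hi : i = 0 ∨ i = 1 := by
      have : ∀ j : Fin 2, j = 0 ∨ j = 1 := by decide
      exact this i
    rcases hi with rfl | rfl
    · rw [← hp, Equiv.Perm.mul_apply, hmp, Equiv.swap_apply_right]
    · rw [← hq, Equiv.Perm.mul_apply, hmq, Equiv.swap_apply_left])
  have hmeb : ∀ b, p ∈ m • eb f b ∧ q ∈ m • eb f b := by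
    intro b
    refine ⟨?_, ?_⟩
    · rw [← hmq, mem_smul_perm]; exact mem_eb_inr
    · rw [← hmp, mem_smul_perm]; exact mem_eb_inr
  have hgb : ∀ b, m • eb f b = eb f (g • b) := by
    intro b
    rw [← Psi_smul_eb, hg, mul_smul, swap_smul_of_both (hmeb b).1 (hmeb b).2]
  have hgB : g ∈ setSystemAut B := by
    rw [mem_aut]
    intro b hb
    rw [hf] at hb ⊢
    rw [Finset.card_smul_finset, ← hgb]
    exact ⟨hb.1, Golay.IsWord.smul hm hb.2⟩
  have hg2 : g * g = 1 := by
    apply Psi_inj f
    rw [map_mul, hg, map_one, mul_assoc, ← mul_assoc m, ← hsw, mul_assoc (Equiv.swap p q), hm2, mul_one,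
      Equiv.swap_mul_self]
  refine ⟨⟨g, hgB⟩, ?_⟩
  have hP2 : hsP (⟨g, hgB⟩ : setSystemAut B) ^ 2 = 1 := by
    rw [← map_pow, ← map_one (hsP (B := B))]
    congr 1
    apply Subtype.ext
    show g ^ 2 = 1
    rw [sq, hg2]
  rw [Equiv.Perm.sign_of_pow_two_eq_one hP2, ← Nat.card_eq_fintype_card, card_Vt hα hB, ← Nat.card_eq_fintype_card]
  -- count the fixed points
  have hfix : Nat.card (Function.fixedPoints (hsP (⟨g, hgB⟩ : setSystemAut B))) = 30 := by
    rw [Nat.card_coe_set_eq]
    have hsplit : Function.fixedPoints (hsP (⟨g, hgB⟩ : setSystemAut B)) =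
        insert (none : Vt B) (((fun a => (some (Sum.inl a) : Vt B)) '' {a | g a = a}) ∪
          ((fun b => (some (Sum.inr b) : Vt B)) '' {b : B | g • (b : Finset α) = b})) := by
      ext u
      rw [Function.mem_fixedPoints, Function.IsFixedPt]
      rcases u with _ | a | b
      · simp [hsP_none]
      · rw [hsP_pt]; simp
      · rw [hsP_bl]; simp [Subtype.ext_iff]
    rw [hsplit, Set.ncard_insert_of_notMem (by simp), Set.ncard_union_eq (by
      rw [Set.disjoint_left]
      rintro _ ⟨a, _, rfl⟩ ⟨b, _, h⟩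
      simp at h), Set.ncard_image_of_injective _ (fun a b h => by simpa using h),
      Set.ncard_image_of_injective _ (fun a b h => by simpa using h)]
    have e8 : {a | g a = a}.ncard = 8 := by
      rw [← hc8, ← Set.ncard_image_of_injective {a | g a = a} (f := fun a => f (Sum.inl a)) (fun a b h => by
        simpa using f.injective h)]
      congr 1
      ext x
      constructor
      · rintro ⟨a, ha, rfl⟩
        show m (f (Sum.inl a)) = f (Sum.inl a)
        have h1 := Psi_inl f g a
        rw [hg, ha, Equiv.Perm.mul_apply] at h1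
        have h2 : m (f (Sum.inl a)) = Equiv.swap p q (f (Sum.inl a)) := by
          conv_rhs => rw [← h1, Equiv.swap_apply_self]
        rw [h2, Equiv.swap_apply_of_ne_of_ne]
        · rw [hp]; intro h; exact absurd (f.injective h) (by simp)
        · rw [hq]; intro h; exact absurd (f.injective h) (by simp)
      · intro hx
        have hx' : m x = x := hx
        obtain ⟨y, rfl⟩ := f.surjective x
        rcases y with a | i
        · refine ⟨a, ?_, rfl⟩
          show g a = a
          have h1 := Psi_inl f g a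
          rw [hg, Equiv.Perm.mul_apply, hx', Equiv.swap_apply_of_ne_of_ne] at h1
          · have := f.injective h1
            simpa using this.symm
          · rw [hp]; intro h; exact absurd (f.injective h) (by simp)
          · rw [hq]; intro h; exact absurd (f.injective h) (by simp)
        · exfalso
          have hi : i = 0 ∨ i = 1 := by
            have : ∀ j : Fin 2, j = 0 ∨ j = 1 := by decide
            exact this i
          rcases hi with rfl | rfl
          · rw [← hp, hmp] at hx'; exact hpq hx'.symm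
          · rw [← hq, hmq] at hx'; exact hpq hx'
    have e21 : {b : B | g • (b : Finset α) = b}.ncard = 21 := by
      rw [← hc21]
      refine Set.ncard_congr (fun b _ => eb f b) ?_ ?_ ?_
      · intro b hb
        have hb' : g • (b : Finset α) = b := hb
        refine ⟨?_, ?_, mem_eb_inr⟩
        · have h1 := (hf _).1 b.2
          rw [Golay.mem_octads]
          refine ⟨h1.2, ?_⟩
          rw [eb, Finset.card_map, exb, Finset.card_disjSum, h1.1]
          rfl
        · rw [hgb, hb']
      · intro b b' _ _ h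
        apply Subtype.ext
        ext a
        rw [← mem_eb_inl (f := f), ← mem_eb_inl (f := f)]
        show _ ↔ f (Sum.inl a) ∈ eb f b'
        rw [← h]
      · rintro o ⟨ho, hmo, hpo⟩
        have hqo : q ∈ o := by
          rw [← hmo, ← hmp, mem_smul_perm]; exact hpo
        set b : Finset α := Finset.univ.filter (fun a => f (Sum.inl a) ∈ o) with hb
        have hbo : eb f b = o := by
          apply ext_f (f := f)
          · intro a; rw [mem_eb_inl, hb]; simp
          · intro i
            have hi : i = 0 ∨ i = 1 := by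
              have : ∀ j : Fin 2, j = 0 ∨ j = 1 := by decide
              exact this i
            rcases hi with rfl | rfl
            · exact ⟨fun _ => hpo, fun _ => mem_eb_inr⟩
            · exact ⟨fun _ => hqo, fun _ => mem_eb_inr⟩
        have hbB : b ∈ B := by
          rw [hf, hbo]
          refine ⟨?_, (Golay.mem_octads.1 ho).1⟩
          have h1 := (Golay.mem_octads.1 ho).2
          rw [← hbo, eb, Finset.card_map, exb, Finset.card_disjSum] at h1
          have h2 : (Finset.univ : Finset (Fin (5 - 3))).card = 2 := rfl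
          omega
        refine ⟨⟨b, hbB⟩, ?_, hbo⟩
        show g • b = b
        have h1 : eb f (g • b) = eb f b := by rw [← hgb, hbo, hmo]
        ext a
        rw [← mem_eb_inl (f := f), h1, mem_eb_inl]
    rw [e8, e21]
  rw [hfix]
  norm_num

/-- the subgroup of type M22 acts 3-transitively -/
theorem trans_seq3 {f : α ⊕ Fin (5 - 3) ≃ GolayPt} (hf : ∀ b, b ∈ B ↔ b.card = 3 + 3 ∧ Golay.IsWord (eb f b)) (x y : Fin 3 ↪ α) :
    ∃ g : Equiv.Perm α, Psi f g ∈ M24 ∧ ∀ i, g (x i) = y i := by
  have hz : ∀ (x : Fin 3 ↪ α), ∀ i < 5, ∀ j < i,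
      (fun i => if h : i < 3 then f (Sum.inl (x ⟨i, h⟩)) else if h' : i - 3 < 5 - 3 then f (Sum.inr ⟨i - 3, h'⟩) else none) j ≠
      (fun i => if h : i < 3 then f (Sum.inl (x ⟨i, h⟩)) else if h' : i - 3 < 5 - 3 then f (Sum.inr ⟨i - 3, h'⟩) else none) i := by
    intro x i hi j hj
    by_cases hit : i < 3
    · have hjt : j < 3 := hj.trans hit
      simp only [hit, hjt, dif_pos]
      intro h
      have := f.injective h
      simp only [Sum.inl.injEq] at this
      have := x.injective this
      simp only [Fin.mk.injEq] at this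
      omega
    · have h1 : i - 3 < 5 - 3 := by omega
      by_cases hjt : j < 3
      · simp only [hjt, hit, h1, dif_pos, dif_neg, not_false_eq_true]
        intro h
        have := f.injective h
        exact absurd this (by simp)
      · have h2 : j - 3 < 5 - 3 := by omega
        simp only [hjt, hit, h1, h2, dif_pos, dif_neg, not_false_eq_true]
        intro h
        have := f.injective h
        simp only [Sum.inr.injEq, Fin.mk.injEq] at this
        omega
  obtain ⟨m, hm, hmx⟩ := Golay.exists_map_le5 (le_refl 5) (hz x) (hz y)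
  have hfix : ∀ i, m (f (Sum.inr i)) = f (Sum.inr i) := by
    intro i
    have h1 := hmx (i.1 + 3) (by omega)
    have h2 : ¬ (i.1 + 3 < 3) := by omega
    have h3 : i.1 + 3 - 3 = i.1 := by omega
    simp only [h2, h3, i.2, dif_pos, dif_neg, not_false_eq_true] at h1
    exact h1
  obtain ⟨g, rfl⟩ := exists_Psi f hfix
  refine ⟨g, hm, fun i => ?_⟩
  have h1 := hmx i.1 (by omega)
  have hi : i.1 < 3 := i.2
  simp only [hi, dif_pos] at h1
  rw [Psi_inl] at h1
  have := f.injective h1
  simpa using this

end Cfsg.Agent.Lib.GolU
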