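import Cfsg.Agent.Lib.GolU.HSAut2

/-!
Simplicity of the Higman–Sims group acting on the Higman–Sims graph.
-/

set_option autoImplicit false

namespace Cfsg.Agent.Lib.GolU

open Cfsg Finset
open Cfsg.Agent.Lib.Steiner
open scoped Pointwise

variable {α : Type*} [Fintype α] [DecidableEq α] {B : Set (Finset α)}

/-- the subgroup of type M22 -/
noncomputable def m22sub (B : Set (Finset α)) (f : α ⊕ Fin (5 - 3) ≃ GolayPt) : Subgroup (setSystemAut B) :=
  (M24.comap (Psi f)).subgroupOf (setSystemAut B)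

theorem mem_m22sub {f : α ⊕ Fin (5 - 3) ≃ GolayPt} {g : setSystemAut B} : g ∈ m22sub B f ↔ Psi f g.1 ∈ M24 := Iff.rfl

theorem m22sub_simple {f : α ⊕ Fin (5 - 3) ≃ GolayPt} (hf : ∀ b, b ∈ B ↔ b.card = 3 + 3 ∧ Golay.IsWord (eb f b)) :
    IsSimpleGroup (m22sub B f) ∧ Nat.card (m22sub B f) = 443520 := by
  set p := f (Sum.inr 0) with hp
  set q := f (Sum.inr 1) with hq
  have hpq : p ≠ q := by
    intro h
    have := f.injective h
    simp at this
  have hle : M24.comap (Psi f) ≤ setSystemAut B := fun g hg => aut_of_Psi hf hg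
  have e : m22sub B f ≃* ↥(M24 ⊓ MulAction.stabilizer (Equiv.Perm GolayPt) p ⊓
      MulAction.stabilizer (Equiv.Perm GolayPt) q) :=
    (Subgroup.subgroupOfEquivOfLe hle).trans ((comapEquiv f).trans (MulEquiv.subgroupCongr (fixK_three f)))
  have hs := Golay.isSimple_stab2 hpq
  have e2 : ↥(MulAction.stabilizer M24 p ⊓ MulAction.stabilizer M24 q) ≃*
      ↥(M24 ⊓ MulAction.stabilizer (Equiv.Perm GolayPt) p ⊓ MulAction.stabilizer (Equiv.Perm GolayPt) q) :=
    (Golay.subgroupOfEquivInf M24 (MulAction.stabilizer _ p ⊓ MulAction.stabilizer _ q)).trans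
      (MulEquiv.subgroupCongr (by rw [inf_assoc]))
  exact ⟨(e.trans e2.symm).isSimpleGroup, by rw [Nat.card_congr e.toEquiv, Golay.card_M24_stab2 hpq]⟩

section

variable [Fintype (Vt B)] [DecidableEq (Vt B)]

/-- the even elements -/
def evK (B : Set (Finset α)) [Fintype (Vt B)] [DecidableEq (Vt B)] : Subgroup (setSystemAut B) :=
  ((Equiv.Perm.sign (α := Vt B)).comp hsP).ker

theorem index_ker_of_neg {G : Type*} [Group G] (φ : G →* ℤˣ) {g : G} (hg : φ g = -1) : φ.ker.index = 2 := by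
  rw [Subgroup.index_ker]
  have : φ.range = ⊤ := by
    rw [MonoidHom.range_eq_top]
    intro u
    rcases Int.units_eq_one_or u with rfl | rfl
    · exact ⟨1, map_one _⟩
    · exact ⟨g, hg⟩
  rw [this, Subgroup.card_top, Nat.card_eq_fintype_card]
  rfl

theorem evK_eq (hα : Fintype.card α = 22) (hB : IsSteinerSystem 3 6 B) {f : α ⊕ Fin (5 - 3) ≃ GolayPt}
    (hf : ∀ b, b ∈ B ↔ b.card = 3 + 3 ∧ Golay.IsWord (eb f b)) : evK B = m22sub B f := by
  obtain ⟨hs, hc⟩ := m22sub_simple hf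
  have hle : m22sub B f ≤ evK B := by
    set ψ : m22sub B f →* ℤˣ := ((Equiv.Perm.sign (α := Vt B)).comp hsP).comp (m22sub B f).subtype with hψ
    rcases hs.eq_bot_or_eq_top_of_normal ψ.ker inferInstance with h | h
    · exfalso
      have hinj := (MonoidHom.ker_eq_bot_iff ψ).1 h
      have h1 := Nat.card_le_card_of_injective ψ hinj
      rw [hc, Nat.card_eq_fintype_card] at h1
      have : Fintype.card ℤˣ = 2 := rfl
      omega
    · intro g hg
      have : (⟨g, hg⟩ : m22sub B f) ∈ ψ.ker := by rw [h]; exact Subgroup.mem_top _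
      exact this
  obtain ⟨g, hg⟩ := exists_odd hα hB hf
  have hi : (evK B).index = 2 := index_ker_of_neg _ (g := g) hg
  have h1 := Subgroup.card_mul_index (evK B)
  rw [hi, (isM22_of hα hB).1] at h1
  symm
  apply Subgroup.eq_of_le_of_card_ge hle
  rw [hc]; omega

/-- the even automorphisms -/
def hsN (B : Set (Finset α)) [Fintype (Vt B)] [DecidableEq (Vt B)] : Subgroup (Equiv.Perm (Vt B)) :=
  hsG B ⊓ (Equiv.Perm.sign (α := Vt B)).ker

theorem card_hsN (hα : Fintype.card α = 22) (hB : IsSteinerSystem 3 6 B) : Nat.card (hsN B) = 44352000 := by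
  obtain ⟨f, hf⟩ := exists_embed (t := 3) (by norm_num) (by norm_num) hα hB
  obtain ⟨g, hg⟩ := exists_odd hα hB hf
  set ψ : hsG B →* ℤˣ := (Equiv.Perm.sign (α := Vt B)).comp (hsG B).subtype with hψ
  have hi : ψ.ker.index = 2 := index_ker_of_neg _ (g := ⟨hsP g, hsP_mem g⟩) hg
  have h1 := Subgroup.card_mul_index ψ.ker
  rw [hi, card_hsG hα hB] at h1
  have h2 : ψ.ker.map (hsG B).subtype = hsN B := by
    ext σ
    constructor
    · rintro ⟨τ, hτ, rfl⟩; exact ⟨τ.2, hτ⟩
    · rintro ⟨h1, h2⟩; exact ⟨⟨σ, h1⟩, h2, rfl⟩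
  rw [← h2, Subgroup.card_map_of_injective (Subgroup.subtype_injective _)]
  omega

/-- the point stabiliser -/
noncomputable def stabN (B : Set (Finset α)) [Fintype (Vt B)] [DecidableEq (Vt B)] :
    evK B ≃* MulAction.stabilizer (hsN B) (none : Vt B) :=
  MulEquiv.ofBijective
    ({ toFun := fun g => ⟨⟨hsP g.1, hsP_mem g.1, g.2⟩, hsP_none g.1⟩
       map_one' := by apply Subtype.ext; apply Subtype.ext; exact map_one _
       map_mul' := fun g h => by apply Subtype.ext; apply Subtype.ext; exact map_mul _ _ _ } :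
        evK B →* MulAction.stabilizer (hsN B) (none : Vt B))
    ⟨fun g h hgh => Subtype.ext (hsP_inj (congrArg (fun x => x.1.1) hgh)), fun σ => by
      obtain ⟨g, hg⟩ := exists_hsP σ.1.2.1 σ.2
      refine ⟨⟨g, ?_⟩, Subtype.ext (Subtype.ext hg)⟩
      show Equiv.Perm.sign (hsP g) = 1
      rw [hg]; exact σ.1.2.2⟩

theorem simple_hsN (hα : Fintype.card α = 22) (hB : IsSteinerSystem 3 6 B) : IsSimpleGroup (hsN B) := by
  obtain ⟨f, hf⟩ := exists_embed (t := 3) (by norm_num) (by norm_num) hα hB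
  obtain ⟨hs, hc⟩ := m22sub_simple hf
  have hS : IsSimpleGroup (MulAction.stabilizer (hsN B) (none : Vt B)) := by
    have e : m22sub B f ≃* MulAction.stabilizer (hsN B) (none : Vt B) :=
      (MulEquiv.subgroupCongr (evK_eq hα hB hf).symm).trans (stabN B)
    exact e.symm.isSimpleGroup
  have hcS : Nat.card (MulAction.stabilizer (hsN B) (none : Vt B)) = 443520 := by
    rw [← Nat.card_congr (stabN B).toEquiv, evK_eq hα hB hf, hc]
  have htr : MulAction.IsPretransitive (hsN B) (Vt B) := by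
    have h2 := Nat.card_congr (MulAction.orbitProdStabilizerEquivGroup (hsN B) (none : Vt B))
    rw [Nat.card_prod, hcS, card_hsN hα hB] at h2
    have h3 : (MulAction.orbit (hsN B) (none : Vt B)).ncard = 100 := by
      rw [← Nat.card_coe_set_eq]; omega
    have h4 : MulAction.orbit (hsN B) (none : Vt B) = Set.univ := by
      apply Set.eq_of_subset_of_ncard_le (Set.subset_univ _)
      · rw [h3, Set.ncard_univ, card_Vt hα hB]
    rw [MulAction.isPretransitive_iff_base (none : Vt B)]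
    intro x
    have : x ∈ MulAction.orbit (hsN B) (none : Vt B) := by rw [h4]; exact Set.mem_univ _
    exact this
  have hmemK : ∀ g : Equiv.Perm α, Psi f g ∈ M24 → ∃ h : setSystemAut B, h.1 = g ∧ hsP h ∈ hsN B := by
    intro g hg
    refine ⟨⟨g, aut_of_Psi hf hg⟩, rfl, hsP_mem _, ?_⟩
    have : (⟨g, aut_of_Psi hf hg⟩ : setSystemAut B) ∈ evK B := by
      rw [evK_eq hα hB hf]; exact hg
    exact this
  refine simple_rank3 (card_Vt hα hB) (none : Vt B) hS (Set.range (fun a => (some (Sum.inl a) : Vt B)))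
    (Set.range (fun b => (some (Sum.inr b) : Vt B))) ?_ ?_ ?_ ?_ ?_ ?_ ?_ ?_
  · rw [← Set.image_univ, Set.ncard_image_of_injective _ (fun a b h => by simpa using h), Set.ncard_univ,
      Nat.card_eq_fintype_card, hα]
  · rw [← Set.image_univ, Set.ncard_image_of_injective _ (fun a b h => by simpa using h), Set.ncard_univ,
      card_blocks hα hB]
  · simp
  · simp
  · rw [Set.disjoint_left]
    rintro _ ⟨a, rfl⟩ ⟨b, h⟩
    simp at h
  · rintro (_ | a | b)
    · exact Or.inl rfl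
    · exact Or.inr (Or.inl ⟨a, rfl⟩)
    · exact Or.inr (Or.inr ⟨b, rfl⟩)
  · rintro _ ⟨a, rfl⟩ _ ⟨a', rfl⟩
    have hx : ∀ a : α, ∃ x : Fin 3 ↪ α, x 0 = a := by
      intro a
      have h1 : 2 ≤ ((Finset.univ : Finset α).erase a).card := by
        rw [Finset.card_erase_of_mem (mem_univ _), Finset.card_univ, hα]; norm_num
      obtain ⟨s, hs1, hs2⟩ := Finset.exists_subset_card_eq h1
      obtain ⟨b, c, hbc, rfl⟩ := Finset.card_eq_two.1 hs2
      have hb : b ≠ a := (mem_erase.1 (hs1 (by simp))).1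
      have hc : c ≠ a := (mem_erase.1 (hs1 (by simp))).1
      refine ⟨⟨![a, b, c], ?_⟩, rfl⟩
      intro i j hij
      fin_cases i <;> fin_cases j <;> simp_all
    obtain ⟨x, hx0⟩ := hx a
    obtain ⟨y, hy0⟩ := hx a'
    obtain ⟨g, hg, hgx⟩ := trans_seq3 hf x y
    obtain ⟨h, rfl, hh⟩ := hmemK g hg
    refine ⟨⟨hsP h, hh⟩, hsP_none h, ?_⟩
    show hsP h (some (Sum.inl a)) = _
    rw [hsP_pt, ← hx0, hgx, hy0]
  · rintro _ ⟨b, rfl⟩ _ ⟨b', rfl⟩
    have hx : ∀ b : B, ∃ x : Fin 3 ↪ α, ∀ i, x i ∈ (b : Finset α) := by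
      intro b
      have h1 : 3 ≤ (b : Finset α).card := by rw [hB.1 b b.2]; norm_num
      obtain ⟨s, hs1, hs2⟩ := Finset.exists_subset_card_eq h1
      refine ⟨(Finset.equivFinOfCardEq hs2).symm.toEmbedding.trans (Function.Embedding.subtype _), fun i => ?_⟩
      exact hs1 ((Finset.equivFinOfCardEq hs2).symm i).2
    obtain ⟨x, hxb⟩ := hx b
    obtain ⟨y, hyb⟩ := hx b'
    obtain ⟨g, hg, hgx⟩ := trans_seq3 hf x y
    obtain ⟨h, rfl, hh⟩ := hmemK g hg
    refine ⟨⟨hsP h, hh⟩, hsP_none h, ?_⟩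
    show hsP h (some (Sum.inr b)) = _
    rw [hsP_bl]
    congr 2
    apply Subtype.ext
    show h.1 • (b : Finset α) = b'
    have hs3 : (Finset.univ.map y).card = 3 := by rw [Finset.card_map]; rfl
    obtain ⟨c, hc, huniq⟩ := hB.2 (Finset.univ.map y) hs3
    have e1 := huniq (h.1 • (b : Finset α)) ⟨mem_aut.1 h.2 _ b.2, by
      intro z hz
      rw [mem_map] at hz
      obtain ⟨i, _, rfl⟩ := hz
      rw [← hgx, mem_smul_perm]; exact hxb i⟩
    have e2 := huniq (b' : Finset α) ⟨b'.2, by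
      intro z hz
      rw [mem_map] at hz
      obtain ⟨i, _, rfl⟩ := hz
      exact hyb i⟩
    rw [e1, e2]

end

theorem exists_HS (hα : Fintype.card α = 22) (hB : IsSteinerSystem 3 6 B) :
    ∃ H : Subgroup (pointBlockGraph B ≃g pointBlockGraph B), IsHS H := by
  classical
  have : Fintype (Vt B) := Fintype.ofFinite _
  refine ⟨((hsN B).subgroupOf (hsG B)).map ((autE B).symm : hsG B →* (pointBlockGraph B ≃g pointBlockGraph B)), ?_⟩
  have e1 : (hsN B).subgroupOf (hsG B) ≃* hsN B := Subgroup.subgroupOfEquivOfLe inf_le_left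
  have e2 := ((autE B).symm.subgroupMap ((hsN B).subgroupOf (hsG B))).symm
  have := simple_hsN hα hB
  refine ⟨(e2.trans e1).isSimpleGroup, ?_⟩
  rw [Nat.card_congr (e2.trans e1).toEquiv, card_hsN hα hB]

end Cfsg.Agent.Lib.GolU
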