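import Cfsg.Agent.Lib.GolU.Model

/-!
Labelling of a Golay family by `Fin 8 ⊕ F₂⁴`; uniqueness.
-/

set_option autoImplicit false

namespace Cfsg.Agent.Lib.GolU

open Cfsg Finset

variable {α : Type*} [Fintype α] [DecidableEq α] {β : Type*} [Fintype β] [DecidableEq β]

/-- transport along an equivalence -/
def pull (e : α ≃ β) (W : Finset (Finset β)) : Finset (Finset α) :=
  Finset.univ.filter (fun s => s.map e.toEmbedding ∈ W)

theorem mem_pull {e : α ≃ β} {W : Finset (Finset β)} {s : Finset α} : s ∈ pull e W ↔ s.map e.toEmbedding ∈ W := by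
  simp [pull]

theorem map_sd (e : α ≃ β) (s t : Finset α) : (symmDiff s t).map e.toEmbedding =
    symmDiff (s.map e.toEmbedding) (t.map e.toEmbedding) := by
  ext x
  simp only [mem_symmDiff, mem_map_equiv]

theorem map_map_symm (e : α ≃ β) (s : Finset β) : (s.map e.symm.toEmbedding).map e.toEmbedding = s := by
  ext x
  simp only [mem_map_equiv, Equiv.symm_symm, Equiv.apply_symm_apply]

theorem map_symm_map (e : α ≃ β) (s : Finset α) : (s.map e.toEmbedding).map e.symm.toEmbedding = s := by
  ext x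
  simp only [mem_map_equiv, Equiv.symm_symm, Equiv.symm_apply_apply]

theorem GF.pull (e : α ≃ β) {W : Finset (Finset β)} (h : GF W) : GF (pull e W) := by
  refine GF.mk ⟨?_, ?_⟩ ?_ ?_ ?_
  · rw [mem_pull, Finset.map_empty]; exact h.zero
  · intro s hs t ht
    rw [mem_pull] at hs ht ⊢
    rw [map_sd]; exact h.add _ hs _ ht
  · rw [Fintype.card_congr e, h.pts]
  · rw [← h.card]
    refine Finset.card_bij' (fun s _ => s.map e.toEmbedding) (fun s _ => s.map e.symm.toEmbedding)
      (fun s hs => mem_pull.1 hs) (fun s hs => ?_) (fun s _ => map_symm_map e s) (fun s _ => map_map_symm e s)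
    rw [mem_pull, map_map_symm]; exact hs
  · intro s hs h8
    rw [mem_pull] at hs
    have := h.min _ hs (by rwa [Finset.card_map])
    rwa [Finset.map_eq_empty] at this

/-- affine functions on `F₂⁴`, as sets -/
def aff (a : ZMod 2) (b : Y4) : Finset Y4 := Finset.univ.filter (fun y => a + ∑ i, b i * y i = 1)

def RMp (r : Finset Y4) : Prop := ∃ a b, r = aff a b

/-- the submodule of a closed family -/
def cod {W : Finset (Finset α)} (h : Closed W) : Submodule (ZMod 2) (α → ZMod 2) where
  carrier := {v | support₂ v ∈ W}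
  zero_mem' := by
    show support₂ (0 : α → ZMod 2) ∈ W
    rw [supp_zero]; exact h.zero
  add_mem' := by
    intro v w hv hw
    show support₂ (v + w) ∈ W
    rw [supp_add]; exact h.add _ hv _ hw
  smul_mem' := by
    intro c v hv
    show support₂ (c • v) ∈ W
    rcases z2 c with hc | hc
    · rw [hc, zero_smul, supp_zero]; exact h.zero
    · rw [hc, one_smul]; exact hv

theorem mem_cod {W : Finset (Finset α)} (h : Closed W) {v : α → ZMod 2} : v ∈ cod h ↔ support₂ v ∈ W := Iff.rfl

/-- the words vanishing on `O` and at `x0` -/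
def vsub {W : Finset (Finset α)} (h : Closed W) (O : Finset α) (x0 : α) : Submodule (ZMod 2) (α → ZMod 2) where
  carrier := {v | support₂ v ∈ W ∧ (∀ x ∈ O, v x = 0) ∧ v x0 = 0}
  zero_mem' := ⟨(cod h).zero_mem, fun _ _ => rfl, rfl⟩
  add_mem' := by
    rintro v w ⟨h1, h2, h3⟩ ⟨h4, h5, h6⟩
    exact ⟨(cod h).add_mem h1 h4, fun x hx => by rw [Pi.add_apply, h2 x hx, h5 x hx, add_zero], by
      rw [Pi.add_apply, h3, h6, add_zero]⟩
  smul_mem' := by
    rintro c v ⟨h1, h2, h3⟩
    exact ⟨(cod h).smul_mem c h1, fun x hx => by rw [Pi.smul_apply, h2 x hx, smul_zero], by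
      rw [Pi.smul_apply, h3, smul_zero]⟩

theorem mem_vsub {W : Finset (Finset α)} (h : Closed W) {O : Finset α} {x0 : α} {v : α → ZMod 2} :
    v ∈ vsub h O x0 ↔ support₂ v ∈ W ∧ (∀ x ∈ O, v x = 0) ∧ v x0 = 0 := Iff.rfl

variable {W : Finset (Finset α)}

theorem GF.card_vsub (h : GF W) {O : Finset α} (hO : O ∈ W) (hO8 : O.card = 8) {x0 : α} (hx0 : x0 ∉ O) :
    Nat.card (vsub h.toClosed O x0) = 16 := by
  have h1 := h.card_away hO hO8
  have h2 := Finset.card_filter_add_card_filter_not (s := away W O) (fun r => x0 ∈ r)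
  have hc : Oᶜ ∈ away W O := mem_away.2 ⟨h.compl_mem hO, disjoint_compl_left⟩
  have hadd : ∀ s ∈ away W O, symmDiff s Oᶜ ∈ away W O := by
    intro s hs
    rw [mem_away] at hs ⊢
    refine ⟨h.add _ hs.1 _ (h.compl_mem hO), ?_⟩
    rw [Finset.disjoint_left]
    intro x hx hxO
    rw [mem_symmDiff, mem_compl] at hx
    have := dj hs.2 x
    tauto
  have hx0c : x0 ∈ Oᶜ := mem_compl.2 hx0
  have h3 : ((away W O).filter (fun r => x0 ∈ r)).card = ((away W O).filter (fun r => ¬ x0 ∈ r)).card := by
    apply Finset.card_bij' (fun s _ => symmDiff s Oᶜ) (fun s _ => symmDiff s Oᶜ)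
    · intro s hs
      rw [mem_filter] at hs ⊢
      refine ⟨hadd s hs.1, ?_⟩
      rw [mem_symmDiff]; tauto
    · intro s hs
      rw [mem_filter] at hs ⊢
      refine ⟨hadd s hs.1, ?_⟩
      rw [mem_symmDiff]; tauto
    · intro s _; exact symmDiff_symmDiff_cancel_right _ s
    · intro s _; exact symmDiff_symmDiff_cancel_right _ s
  have h4 : ((away W O).filter (fun r => ¬ x0 ∈ r)).card = 16 := by omega
  rw [← h4, ← Nat.card_eq_finsetCard]
  refine Nat.card_congr ⟨fun v => ⟨support₂ v.1, ?_⟩, fun s => ⟨ind s.1, ?_⟩, ?_, ?_⟩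
  · have hv := (mem_vsub h.toClosed).1 v.2
    rw [mem_filter, mem_away]
    refine ⟨⟨hv.1, ?_⟩, ?_⟩
    · rw [Finset.disjoint_left]
      intro x hx hxO
      rw [mem_supp, hv.2.1 x hxO] at hx
      exact absurd hx (by decide)
    · rw [mem_supp, hv.2.2]; decide
  · have hs := s.2
    rw [mem_filter, mem_away] at hs
    rw [mem_vsub, supp_ind]
    refine ⟨hs.1.1, ?_, ?_⟩
    · intro x hx
      have := dj hs.1.2 x
      have h5 : x ∉ s.1 := by tauto
      simp [ind, h5]
    · simp [ind, hs.2]
  · intro v; exact Subtype.ext (ind_supp _)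
  · intro s; exact Subtype.ext (supp_ind _)

theorem GF.label (h : GF W) : ∃ e : Fin 8 ⊕ Y4 ≃ α, Mod RMp (GolU.pull e W) := by
  obtain ⟨O, hO, hO8⟩ := h.exists_octad'
  have hOc : Oᶜ.card = 16 := by rw [Finset.card_compl, h.pts, hO8]
  obtain ⟨x0, hx0'⟩ : Oᶜ.Nonempty := by rw [← Finset.card_pos]; omega
  have hx0 : x0 ∉ O := mem_compl.1 hx0'
  set S := vsub h.toClosed O x0 with hS
  have hcard : Nat.card S = 16 := h.card_vsub hO hO8 hx0
  have hfin : Module.finrank (ZMod 2) S = 4 := by
    have := Module.natCard_eq_pow_finrank (K := ZMod 2) (V := S)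
    rw [hcard, Nat.card_zmod] at this
    have h2 : (2 : ℕ) ^ 4 = 2 ^ Module.finrank (ZMod 2) S := by rw [← this]; norm_num
    exact (Nat.pow_right_injective (le_refl 2) h2).symm
  set b := Module.finBasisOfFinrankEq (ZMod 2) S hfin with hb
  have hrep : ∀ v ∈ S, ∃ c : Fin 4 → ZMod 2, ∀ x, v x = ∑ i, c i * (b i).1 x := by
    intro v hv
    refine ⟨fun i => b.repr ⟨v, hv⟩ i, fun x => ?_⟩
    have h1 := b.sum_repr ⟨v, hv⟩
    have h2 := congrArg (fun u : S => u.1 x) h1
    simp only [Submodule.coe_sum, Submodule.coe_smul, Finset.sum_apply, Pi.smul_apply, smul_eq_mul] at h2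
    exact h2.symm
  set lam : α → Y4 := fun x i => (b i).1 x with hlam
  have hindO : ∀ x, ind (Oᶜ) x = if x ∈ O then 0 else 1 := by
    intro x; unfold ind; by_cases hx : x ∈ O <;> simp [hx]
  -- representation of words away from `O`
  have hrepW : ∀ s ∈ away W O, ∃ (a : ZMod 2) (c : Fin 4 → ZMod 2), ∀ x, x ∉ O → ind s x = a + ∑ i, c i * lam x i := by
    intro s hs
    rw [mem_away] at hs
    by_cases hxs : x0 ∈ s
    · have hv : ind s + ind Oᶜ ∈ S := by
        rw [hS, mem_vsub, ← ind_sd, supp_ind]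
        refine ⟨h.add _ hs.1 _ (h.compl_mem hO), ?_, ?_⟩
        · intro x hx
          have h1 := dj hs.2 x
          have h2 : x ∉ symmDiff s Oᶜ := by rw [mem_symmDiff, mem_compl]; tauto
          simp [ind, h2]
        · have h2 : x0 ∉ symmDiff s Oᶜ := by rw [mem_symmDiff, mem_compl]; tauto
          simp [ind, h2]
      obtain ⟨c, hc⟩ := hrep _ hv
      refine ⟨1, c, fun x hx => ?_⟩
      have h1 := hc x
      rw [Pi.add_apply, hindO, if_neg hx] at h1
      rw [← h1]
      rcases z2 (ind s x) with h2 | h2 <;> rw [h2] <;> decide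
    · have hv : ind s ∈ S := by
        rw [hS, mem_vsub, supp_ind]
        refine ⟨hs.1, ?_, ?_⟩
        · intro x hx
          have h1 := dj hs.2 x
          have h2 : x ∉ s := by tauto
          simp [ind, h2]
        · simp [ind, hxs]
      obtain ⟨c, hc⟩ := hrep _ hv
      exact ⟨0, c, fun x _ => by rw [zero_add]; exact hc x⟩
  have hinj : Function.Injective (fun x : {x // x ∉ O} => lam x.1) := by
    intro x y hxy
    by_contra hne
    obtain ⟨r, hr, h1, h2⟩ := h.separates hO hO8 x.2 y.2 (fun e => hne (Subtype.ext e))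
    obtain ⟨a, c, hac⟩ := hrepW r hr
    have e1 := hac x.1 x.2
    have e2 := hac y.1 y.2
    have e3 : lam x.1 = lam y.1 := hxy
    rw [e3, ← e2] at e1
    simp [ind, h1, h2] at e1
  have hcardc : Fintype.card {x // x ∉ O} = Fintype.card Y4 := by
    have : Fintype.card {x // x ∉ O} = Oᶜ.card := by
      rw [Fintype.card_subtype]; congr 1; ext x; simp
    rw [this, hOc]; simp [Y4]
  have hbij : Function.Bijective (fun x : {x // x ∉ O} => lam x.1) :=
    (Fintype.bijective_iff_injective_and_card _).2 ⟨hinj, hcardc⟩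
  set e2 : {x // x ∉ O} ≃ Y4 := Equiv.ofBijective _ hbij with he2
  have he2a : ∀ y, lam (e2.symm y).1 = y := fun y => Equiv.ofBijective_apply_symm_apply _ hbij y
  have hcO : Fintype.card {x // x ∈ O} = 8 := by rw [Fintype.card_coe, hO8]
  set e1 : {x // x ∈ O} ≃ Fin 8 := Fintype.equivFinOfCardEq hcO with he1
  set e : Fin 8 ⊕ Y4 ≃ α := (Equiv.sumCongr e1.symm e2.symm).trans (Equiv.sumCompl (fun x => x ∈ O)) with he
  have hel : ∀ i, e (Sum.inl i) = (e1.symm i).1 := fun i => rfl
  have her : ∀ y, e (Sum.inr y) = (e2.symm y).1 := fun y => rfl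
  have helO : ∀ i, e (Sum.inl i) ∈ O := fun i => by rw [hel]; exact (e1.symm i).2
  have herO : ∀ y, e (Sum.inr y) ∉ O := fun y => by rw [her]; exact (e2.symm y).2
  have hlame : ∀ y, lam (e (Sum.inr y)) = y := fun y => by rw [her]; exact he2a y
  have hsurj : ∀ x : α, (∃ i, x = e (Sum.inl i)) ∨ ∃ y, x = e (Sum.inr y) := by
    intro x
    rcases hz : e.symm x with i | y
    · left; exact ⟨i, by rw [← hz, Equiv.apply_symm_apply]⟩
    · right; exact ⟨y, by rw [← hz, Equiv.apply_symm_apply]⟩
  have hmemr : ∀ (r : Finset Y4) (y : Y4), e (Sum.inr y) ∈ ((∅ : Finset (Fin 8)).disjSum r).map e.toEmbedding ↔ y ∈ r := by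
    intro r y
    rw [mem_map_equiv, Equiv.symm_apply_apply, Finset.inr_mem_disjSum]
  have hmeml : ∀ (r : Finset Y4) (i : Fin 8), e (Sum.inl i) ∉ ((∅ : Finset (Fin 8)).disjSum r).map e.toEmbedding := by
    intro r i
    rw [mem_map_equiv, Equiv.symm_apply_apply, Finset.inl_mem_disjSum]
    exact Finset.notMem_empty _
  refine ⟨e, { toGF := h.pull e, oct := ?_, rm := ?_ }⟩
  · rw [mem_pull]
    have : ((univ : Finset (Fin 8)).disjSum (∅ : Finset Y4)).map e.toEmbedding = O := by
      ext x
      rcases hsurj x with ⟨i, rfl⟩ | ⟨y, rfl⟩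
      · rw [mem_map_equiv, Equiv.symm_apply_apply, Finset.inl_mem_disjSum]
        simp only [mem_univ, true_iff]; exact helO i
      · rw [mem_map_equiv, Equiv.symm_apply_apply, Finset.inr_mem_disjSum]
        simp only [Finset.notMem_empty, false_iff]; exact herO y
    rw [this]; exact hO
  · intro r
    rw [mem_pull]
    constructor
    · intro hr
      have haw : ((∅ : Finset (Fin 8)).disjSum r).map e.toEmbedding ∈ away W O := by
        rw [mem_away]
        refine ⟨hr, ?_⟩
        rw [Finset.disjoint_left]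
        intro x hx hxO
        rcases hsurj x with ⟨i, rfl⟩ | ⟨y, rfl⟩
        · exact hmeml r i hx
        · exact herO y hxO
      obtain ⟨a, c, hac⟩ := hrepW _ haw
      refine ⟨a, c, ?_⟩
      ext y
      have h1 := hac _ (herO y)
      rw [hlame] at h1
      rw [aff, mem_filter, ← h1]
      simp only [mem_univ, true_and]
      rw [← hmemr r y]
      unfold ind
      by_cases hy : e (Sum.inr y) ∈ ((∅ : Finset (Fin 8)).disjSum r).map e.toEmbedding
      · simp [hy]
      · simp [hy]
    · rintro ⟨a, c, rfl⟩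
      have hv : a • ind Oᶜ + ∑ i, c i • (b i).1 ∈ cod h.toClosed := by
        apply Submodule.add_mem
        · apply Submodule.smul_mem
          rw [mem_cod, supp_ind]; exact h.compl_mem hO
        · apply Submodule.sum_mem
          intro i _
          apply Submodule.smul_mem
          exact ((mem_vsub h.toClosed).1 (b i).2).1
      rw [mem_cod] at hv
      have : support₂ (a • ind Oᶜ + ∑ i, c i • (b i).1) = ((∅ : Finset (Fin 8)).disjSum (aff a c)).map e.toEmbedding := by
        ext x
        rw [mem_supp, Pi.add_apply, Pi.smul_apply, Finset.sum_apply, hindO]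
        simp only [Pi.smul_apply, smul_eq_mul]
        rcases hsurj x with ⟨i, rfl⟩ | ⟨y, rfl⟩
        · rw [if_pos (helO i)]
          have h1 : ∀ j, (b j).1 (e (Sum.inl i)) = 0 := fun j => ((mem_vsub h.toClosed).1 (b j).2).2.1 _ (helO i)
          simp only [h1, mul_zero, Finset.sum_const_zero, add_zero]
          have := hmeml (aff a c) i
          constructor
          · intro h0; exact absurd h0 (by decide)
          · intro h0; exact absurd h0 this
        · rw [if_neg (herO y), mul_one, hmemr, aff, mem_filter]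
          simp only [mem_univ, true_and]
          have h1 : ∀ j, (b j).1 (e (Sum.inr y)) = y j := fun j => congrFun (hlame y) j
          simp only [h1]
      rw [← this]; exact hv

/-- uniqueness of Golay families -/
theorem GF.unique {W' : Finset (Finset β)} (h : GF W) (h' : GF W') :
    ∃ f : α ≃ β, ∀ s : Finset α, s ∈ W ↔ s.map f.toEmbedding ∈ W' := by
  obtain ⟨e, he⟩ := h.label
  obtain ⟨e', he'⟩ := h'.label
  obtain ⟨σ, hσ⟩ := he.unique he'
  refine ⟨(e.symm.trans (Equiv.sumCongr σ (Equiv.refl Y4))).trans e', fun s => ?_⟩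
  have h1 : s ∈ W ↔ s.map e.symm.toEmbedding ∈ GolU.pull e W := by
    rw [mem_pull, map_map_symm]
  rw [h1, ← ds_eta (s.map e.symm.toEmbedding), hσ, mem_pull]
  have : ((((s.map e.symm.toEmbedding).toLeft.map σ.toEmbedding).disjSum (s.map e.symm.toEmbedding).toRight)).map e'.toEmbedding
      = s.map ((e.symm.trans (Equiv.sumCongr σ (Equiv.refl Y4))).trans e').toEmbedding := by
    ext x
    rw [mem_map_equiv, mem_map_equiv]
    simp only [Equiv.symm_trans_apply, Equiv.symm_symm]
    rcases e'.symm x with i | y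
    · rw [Finset.inl_mem_disjSum, mem_map_equiv, Finset.mem_toLeft, mem_map_equiv, Equiv.symm_symm]
      simp
    · rw [Finset.inr_mem_disjSum, Finset.mem_toRight, mem_map_equiv, Equiv.symm_symm]
      simp
  rw [this]

end Cfsg.Agent.Lib.GolU
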