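import Cfsg.Agent.Lib.GolU.Basic

/-!
Linear binary codes (as families of sets) of length 24, size 4096 and minimum weight at least 8:
coset leaders, sextets and octads.
-/

set_option autoImplicit false

namespace Cfsg.Agent.Lib.GolU

open Cfsg Finset

variable {α : Type*} [Fintype α] [DecidableEq α]

structure GF (W : Finset (Finset α)) : Prop extends Closed W where
  pts : Fintype.card α = 24
  card : W.card = 4096
  min : ∀ s ∈ W, s.card < 8 → s = ∅

/-- the sets of size `≤ 3` in the coset -/
def low (W : Finset (Finset α)) (v : Finset α) : Finset (Finset α) :=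
  Finset.univ.filter (fun t => t.card ≤ 3 ∧ symmDiff v t ∈ W)

/-- the sets of size `4` in the coset -/
def tet (W : Finset (Finset α)) (v : Finset α) : Finset (Finset α) :=
  Finset.univ.filter (fun t => t.card = 4 ∧ symmDiff v t ∈ W)

theorem mem_low {W : Finset (Finset α)} {v t : Finset α} : t ∈ low W v ↔ t.card ≤ 3 ∧ symmDiff v t ∈ W := by
  simp [low]

theorem mem_tet {W : Finset (Finset α)} {v t : Finset α} : t ∈ tet W v ↔ t.card = 4 ∧ symmDiff v t ∈ W := by
  simp [tet]

theorem sd_cancel (v s t : Finset α) : symmDiff (symmDiff v s) (symmDiff v t) = symmDiff s t := by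
  ext x; simp only [mem_symmDiff]; tauto

variable {W : Finset (Finset α)}

theorem GF.eq_of_sd (h : GF W) {v s t : Finset α} (hs : symmDiff v s ∈ W) (ht : symmDiff v t ∈ W)
    (hc : (symmDiff s t).card < 8) : s = t := by
  have h1 := h.add _ hs _ ht
  rw [sd_cancel] at h1
  exact symmDiff_eq_bot.1 (h.min _ h1 hc)

theorem GF.low_le (h : GF W) (v : Finset α) : (low W v).card ≤ 1 := by
  rw [Finset.card_le_one]
  intro s hs t ht
  rw [mem_low] at hs ht
  exact h.eq_of_sd hs.2 ht.2 (by have := card_sd s t; omega)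

theorem GF.tet_empty (h : GF W) {v : Finset α} (hl : (low W v).Nonempty) : tet W v = ∅ := by
  obtain ⟨s, hs⟩ := hl
  rw [Finset.eq_empty_iff_forall_notMem]
  intro t ht
  rw [mem_low] at hs
  rw [mem_tet] at ht
  have := h.eq_of_sd hs.2 ht.2 (by have := card_sd s t; omega)
  subst this
  omega

theorem GF.tet_disj (h : GF W) {v s t : Finset α} (hs : s ∈ tet W v) (ht : t ∈ tet W v) (hst : s ≠ t) :
    Disjoint s t := by
  rw [mem_tet] at hs ht
  rw [Finset.disjoint_iff_inter_eq_empty, ← Finset.card_eq_zero]
  by_contra hc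
  exact hst (h.eq_of_sd hs.2 ht.2 (by have := card_sd s t; omega))

theorem GF.card_union (h : GF W) (v : Finset α) : ((tet W v).biUnion id).card = 4 * (tet W v).card := by
  rw [Finset.card_biUnion (t := id) (fun s hs t ht hst => h.tet_disj hs ht hst)]
  simp only [id]
  rw [Finset.sum_congr rfl (g := fun _ => 4) (fun s hs => (mem_tet.1 hs).1)]
  rw [Finset.sum_const, smul_eq_mul, mul_comm]

theorem GF.tet_le (h : GF W) (v : Finset α) : (tet W v).card ≤ 6 := by
  have h1 := h.card_union v
  have h2 := Finset.card_le_univ ((tet W v).biUnion id)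
  rw [h.pts] at h2
  omega

theorem sum_count (W : Finset (Finset α)) (P : Finset α → Prop) [DecidablePred P] :
    ∑ v : Finset α, (Finset.univ.filter (fun t => P t ∧ symmDiff v t ∈ W)).card =
      (Finset.univ.filter P).card * W.card := by
  have h1 := Finset.sum_card_bipartiteAbove_eq_sum_card_bipartiteBelow (fun (v t : Finset α) => symmDiff v t ∈ W)
    (s := Finset.univ) (t := Finset.univ.filter P)
  have h2 : ∀ t ∈ Finset.univ.filter P,
      (Finset.bipartiteBelow (fun (v t : Finset α) => symmDiff v t ∈ W) Finset.univ t).card = W.card := by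
    intro t _
    apply Finset.card_bij' (fun v _ => symmDiff v t) (fun v _ => symmDiff v t)
    · intro v hv
      exact (Finset.mem_bipartiteBelow _).1 hv |>.2
    · intro v hv
      rw [Finset.mem_bipartiteBelow]
      refine ⟨mem_univ _, ?_⟩
      rw [symmDiff_symmDiff_cancel_right]; exact hv
    · intro v _; exact symmDiff_symmDiff_cancel_right t v
    · intro v _; exact symmDiff_symmDiff_cancel_right t v
  rw [Finset.sum_congr rfl h2, Finset.sum_const, smul_eq_mul] at h1
  rw [← h1]
  apply Finset.sum_congr rfl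
  intro v _
  congr 1
  ext t
  simp [Finset.bipartiteAbove]

theorem card_le3 (hα : Fintype.card α = 24) :
    (Finset.univ.filter (fun t : Finset α => t.card ≤ 3)).card = 2325 := by
  rw [Finset.card_eq_sum_card_fiberwise (f := fun t : Finset α => t.card) (t := Finset.range 4)]
  · have : ∀ j ∈ Finset.range 4, ((Finset.univ.filter (fun t : Finset α => t.card ≤ 3)).filter (fun t => t.card = j)).card =
        Nat.choose 24 j := by
      intro j hj
      rw [mem_range] at hj
      rw [← hα, ← Finset.card_univ, ← Finset.card_powersetCard]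
      congr 1
      ext t
      simp only [mem_filter, mem_univ, true_and, mem_powersetCard, Finset.subset_univ]
      omega
    rw [Finset.sum_congr rfl this]
    decide
  · intro t ht
    simp only [coe_filter, mem_univ, true_and, Set.mem_ofPred_eq] at ht
    simp only [coe_range, Set.mem_Iio]
    omega

theorem card_eq4 (hα : Fintype.card α = 24) :
    (Finset.univ.filter (fun t : Finset α => t.card = 4)).card = 10626 := by
  have : (Finset.univ.filter (fun t : Finset α => t.card = 4)) = Finset.powersetCard 4 Finset.univ := by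
    ext t; simp [mem_powersetCard]
  rw [this, Finset.card_powersetCard, Finset.card_univ, hα]
  decide

theorem GF.count (h : GF W) (v : Finset α) : 6 * (low W v).card + (tet W v).card = 6 := by
  have h1 : ∀ v ∈ (Finset.univ : Finset (Finset α)), 6 * (low W v).card + (tet W v).card ≤ 6 := by
    intro v _
    have a1 := h.low_le v
    have a2 := h.tet_le v
    by_cases hl : (low W v).Nonempty
    · rw [h.tet_empty hl, Finset.card_empty]; omega
    · rw [Finset.not_nonempty_iff_eq_empty] at hl
      rw [hl, Finset.card_empty]; omega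
  have h2 : ∑ v : Finset α, (6 * (low W v).card + (tet W v).card) = ∑ _v : Finset α, 6 := by
    rw [Finset.sum_add_distrib, ← Finset.mul_sum]
    have e1 := sum_count W (fun t : Finset α => t.card ≤ 3)
    have e2 := sum_count W (fun t : Finset α => t.card = 4)
    have e1' : ∑ v : Finset α, (low W v).card = 2325 * 4096 := by
      rw [← card_le3 h.pts, ← h.card, ← e1]; rfl
    have e2' : ∑ v : Finset α, (tet W v).card = 10626 * 4096 := by
      rw [← card_eq4 h.pts, ← h.card, ← e2]; rfl
    rw [e1', e2', Finset.sum_const, Finset.card_univ, Fintype.card_finset, h.pts]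
    norm_num
  exact (Finset.sum_eq_sum_iff_of_le h1).1 h2 v (mem_univ _)

theorem GF.leader (h : GF W) (v : Finset α) : ∃ t : Finset α, t.card ≤ 4 ∧ symmDiff v t ∈ W := by
  have := h.count v
  rcases Nat.eq_zero_or_pos (low W v).card with h0 | h0
  · have : 0 < (tet W v).card := by omega
    obtain ⟨t, ht⟩ := Finset.card_pos.1 this
    rw [mem_tet] at ht
    exact ⟨t, ht.1.le, ht.2⟩
  · obtain ⟨t, ht⟩ := Finset.card_pos.1 h0
    rw [mem_low] at ht
    exact ⟨t, by omega, ht.2⟩

/-- a tetrad lies in a sextet -/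
theorem GF.tet_card (h : GF W) {T : Finset α} (hT : T.card = 4) : (tet W T).card = 6 := by
  have h1 := h.count T
  have h2 : low W T = ∅ := by
    rw [Finset.eq_empty_iff_forall_notMem]
    intro s hs
    rw [mem_low] at hs
    have h3 := h.min _ hs.2 (by have := card_sd T s; omega)
    have h4 : T = s := symmDiff_eq_bot.1 h3
    rw [h4] at hT; omega
  rw [h2, Finset.card_empty] at h1
  omega

theorem GF.tet_cover (h : GF W) {v : Finset α} (h6 : (tet W v).card = 6) (x : α) : ∃ t ∈ tet W v, x ∈ t := by
  have h1 := h.card_union v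
  rw [h6] at h1
  have h2 : (tet W v).biUnion id = Finset.univ := by
    apply Finset.eq_univ_of_card
    rw [h1, h.pts]
  have := mem_univ x
  rw [← h2, mem_biUnion] at this
  exact this

theorem GF.exists_octad (h : GF W) {s : Finset α} (hs : s.card = 5) : ∃ o ∈ W, o.card = 8 ∧ s ⊆ o := by
  have hc := h.count s
  rcases Nat.eq_zero_or_pos (low W s).card with h0 | h0
  · exfalso
    have h6 : (tet W s).card = 6 := by omega
    have h1 : ∀ t ∈ tet W s, Disjoint t s := by
      intro t ht
      rw [mem_tet] at ht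
      rw [Finset.disjoint_iff_inter_eq_empty, ← Finset.card_eq_zero]
      by_contra hc
      have h2 := card_sd s t
      rw [Finset.inter_comm] at hc
      have h3 := h.min _ ht.2 (by omega)
      have h4 : s = t := symmDiff_eq_bot.1 h3
      rw [h4] at hs; omega
    obtain ⟨x, hx⟩ : s.Nonempty := by rw [← Finset.card_pos]; omega
    obtain ⟨t, ht, hxt⟩ := h.tet_cover h6 x
    exact (Finset.disjoint_left.1 (h1 t ht)) hxt hx
  · obtain ⟨t, ht⟩ := Finset.card_pos.1 h0
    rw [mem_low] at ht
    have h1 := card_sd s t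
    have h2 : (symmDiff s t).card = 8 ∧ (s ∩ t).card = 0 := by
      have : ¬ (symmDiff s t).card < 8 := by
        intro hc
        have h3 := h.min _ ht.2 hc
        have h4 : s = t := symmDiff_eq_bot.1 h3
        rw [h4] at hs; omega
      omega
    refine ⟨_, ht.2, h2.1, ?_⟩
    intro x hx
    rw [mem_symmDiff]
    refine Or.inl ⟨hx, fun hxt => ?_⟩
    have := Finset.card_eq_zero.1 h2.2
    have h3 : x ∈ s ∩ t := mem_inter.2 ⟨hx, hxt⟩
    rw [this] at h3
    exact absurd h3 (Finset.notMem_empty _)

/-- two octads with five common points are equal -/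
theorem GF.octad_eq (h : GF W) {o o' : Finset α} (ho : o ∈ W) (ho' : o' ∈ W) (h8 : o.card = 8) (h8' : o'.card = 8)
    (h5 : 5 ≤ (o ∩ o').card) : o = o' := by
  have h1 := card_sd o o'
  exact symmDiff_eq_bot.1 (h.min _ (h.add _ ho _ ho') (by omega))

/-- the octads -/
def octs (W : Finset (Finset α)) : Set (Finset α) := {s | s ∈ W ∧ s.card = 8}

theorem GF.steiner (h : GF W) : IsSteinerSystem 5 8 (octs W) := by
  refine ⟨fun b hb => hb.2, ?_⟩
  intro s hs
  obtain ⟨o, ho, h8, hso⟩ := h.exists_octad hs
  refine ⟨o, ⟨⟨ho, h8⟩, hso⟩, ?_⟩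
  rintro o' ⟨⟨ho', h8'⟩, hso'⟩
  apply h.octad_eq ho' ho h8' h8
  rw [← hs]
  exact Finset.card_le_card (Finset.subset_inter hso' hso)

theorem GF.induction (h : GF W) {P : Finset α → Prop} (h0 : P ∅)
    (hadd : ∀ s t, s ∈ W → t ∈ W → P s → P t → P (symmDiff s t)) (hoct : ∀ o ∈ W, o.card = 8 → P o) :
    ∀ s ∈ W, P s := by
  intro s
  induction' hn : s.card using Nat.strong_induction_on with n ih generalizing s
  intro hs
  by_cases h8 : s.card < 8
  · rw [h.min s hs h8]; exact h0
  · obtain ⟨u, hu, hu5⟩ := Finset.exists_subset_card_eq (show 5 ≤ s.card by omega)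
    obtain ⟨o, ho, ho8, huo⟩ := h.exists_octad hu5
    have h1 := card_sd s o
    have h2 : 5 ≤ (s ∩ o).card := by rw [← hu5]; exact Finset.card_le_card (Finset.subset_inter hu huo)
    have h3 := ih (symmDiff s o).card (by omega) _ rfl (h.add _ hs _ ho)
    have h4 := hadd _ _ (h.add _ hs _ ho) ho h3 (hoct o ho ho8)
    rwa [symmDiff_symmDiff_cancel_right] at h4

theorem GF.de (h : GF W) : DE W := by
  have h1 : ∀ s ∈ W, ∀ o ∈ W, o.card = 8 → Even (s ∩ o).card := by
    apply h.induction (P := fun s => ∀ o ∈ W, o.card = 8 → Even (s ∩ o).card)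
    · intro o _ _; simp
    · intro s t _ _ hs ht o ho h8
      exact even_sd (hs o ho h8) (ht o ho h8)
    · intro o ho h8 o' ho' h8'
      exact Cfsg.Agent.Lib.Steiner.even_5_8_24 h.pts h.steiner ⟨ho, h8⟩ ⟨ho', h8'⟩
  have h2 : ∀ s ∈ W, ∀ t ∈ W, Even (s ∩ t).card := by
    intro s hs
    apply h.induction (P := fun t => Even (s ∩ t).card)
    · simp
    · intro u v _ _ hu hv
      rw [Finset.inter_comm] at hu hv ⊢
      exact even_sd hu hv
    · intro o ho h8; exact h1 s hs o ho h8
  refine ⟨?_, h2⟩
  apply h.induction (P := fun s => 4 ∣ s.card)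
  · simp
  · intro s t hs ht h3 h4
    have h5 := card_sd s t
    have h6 := h2 s hs t ht
    rw [Nat.even_iff] at h6; omega
  · intro o _ h8; rw [h8]; decide

theorem GF.even (h : GF W) {s t : Finset α} (hs : s ∈ W) (ht : t ∈ W) : Even (s ∩ t).card := h.de.2 s hs t ht

theorem GF.perp_eq (h : GF W) : perp W = W := by
  have h1 : W ⊆ perp W := by
    intro s hs; rw [mem_perp]; intro c hc; exact h.even hs hc
  have h2 := card_mul_perp h.toClosed
  rw [h.pts, h.card] at h2
  exact (Finset.eq_of_subset_of_card_le h1 (by rw [h.card]; omega)).symm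

theorem GF.mem_of_perp (h : GF W) {d : Finset α} (hd : ∀ c ∈ W, Even (d ∩ c).card) : d ∈ W := by
  rw [← h.perp_eq, mem_perp]; exact hd

theorem GF.univ_mem (h : GF W) : (Finset.univ : Finset α) ∈ W := by
  apply h.mem_of_perp
  intro c hc
  rw [Finset.univ_inter]
  obtain ⟨k, hk⟩ := h.de.1 c hc
  exact ⟨2 * k, by omega⟩

theorem compl_eq_sd (s : Finset α) : sᶜ = symmDiff s Finset.univ := by
  ext x; simp [mem_symmDiff]

theorem GF.compl_mem (h : GF W) {s : Finset α} (hs : s ∈ W) : sᶜ ∈ W := by
  rw [compl_eq_sd]; exact h.add _ hs _ h.univ_mem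

/-- every doubly even family with no orthogonal tetrad extends to a Golay family -/
theorem exists_GF (hα : Fintype.card α = 24) {B : Finset (Finset α)} (hB : DE B)
    (h4 : ∀ s : Finset α, s.card = 4 → (∀ c ∈ B, Even (s ∩ c).card) → False) : ∃ W, B ⊆ W ∧ GF W := by
  obtain ⟨W, hBW, hW⟩ := exists_max hB
  refine ⟨W, hBW, ?_⟩
  have hcl := closed_of_max hW
  refine GF.mk hcl hα (card_of_max hα hW) ?_
  intro s hs h8
  have h1 := hW.1.1 s hs
  have h2 : s.card ≠ 4 := fun h => h4 s h (fun c hc => hW.1.2 s hs c (hBW hc))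
  rw [← Finset.card_eq_zero]; omega

end Cfsg.Agent.Lib.GolU
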