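import Cfsg.Agent.Lib.GolU.Restr
import Mathlib.Data.Finset.Sum

/-!
Comparison of two Golay families on `Fin 8 ⊕ F₂⁴` with the same words away from the octad.
-/

set_option autoImplicit false

namespace Cfsg.Agent.Lib.GolU

open Cfsg Finset

abbrev Y4 := Fin 4 → ZMod 2

section ds
variable {A B : Type*} [DecidableEq A] [DecidableEq B]

theorem ds_sd (e e' : Finset A) (w w' : Finset B) :
    symmDiff (e.disjSum w) (e'.disjSum w') = (symmDiff e e').disjSum (symmDiff w w') := by
  ext x
  rcases x with x | x <;> simp [mem_symmDiff]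

theorem ds_inter (e e' : Finset A) (w w' : Finset B) :
    (e.disjSum w) ∩ (e'.disjSum w') = (e ∩ e').disjSum (w ∩ w') := by
  ext x
  rcases x with x | x <;> simp

theorem ds_eta (s : Finset (A ⊕ B)) : s.toLeft.disjSum s.toRight = s := Finset.toLeft_disjSum_toRight

end ds

structure Mod (RM : Finset Y4 → Prop) (W : Finset (Finset (Fin 8 ⊕ Y4))) : Prop extends GF W where
  oct : (univ : Finset (Fin 8)).disjSum (∅ : Finset Y4) ∈ W
  rm : ∀ r : Finset Y4, (∅ : Finset (Fin 8)).disjSum r ∈ W ↔ RM r

variable {RM : Finset Y4 → Prop} {W W' : Finset (Finset (Fin 8 ⊕ Y4))}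

theorem Mod.left_even (h : Mod RM W) {e : Finset (Fin 8)} {w : Finset Y4} (hw : e.disjSum w ∈ W) : Even e.card := by
  have := h.even hw h.oct
  rw [ds_inter, Finset.card_disjSum] at this
  simpa using this

theorem Mod.left_only (h : Mod RM W) {e : Finset (Fin 8)} (hw : e.disjSum (∅ : Finset Y4) ∈ W) :
    e = ∅ ∨ e = univ := by
  by_cases h8 : e.card < 8
  · left
    have := h.min _ hw (by rw [Finset.card_disjSum]; simpa using h8)
    rw [← Finset.card_eq_zero, Finset.card_disjSum] at this
    rw [← Finset.card_eq_zero]; omega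
  · right
    apply Finset.eq_univ_of_card
    have := Finset.card_le_univ e
    simp only [Fintype.card_fin] at this ⊢
    omega

theorem Mod.exists_right (h : Mod RM W) {e : Finset (Fin 8)} (he : Even e.card) : ∃ w, e.disjSum w ∈ W := by
  obtain ⟨s, hs, hse⟩ := h.trace_even h.oct (by simp [Finset.card_disjSum]) (E := e.disjSum ∅) (by
    intro x hx
    rcases x with x | x
    · simp
    · simp at hx) (by rw [Finset.card_disjSum]; simpa using he)
  refine ⟨s.toRight, ?_⟩
  have : e = s.toLeft := by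
    ext x
    have := congrArg (fun t => Sum.inl x ∈ t) hse
    simp only [mem_inter, Finset.inl_mem_disjSum, mem_univ, and_true, eq_iff_iff] at this
    rw [Finset.mem_toLeft]; exact this.symm
  rw [this, ds_eta]; exact hs

theorem Mod.proj (h : Mod RM W) (h' : Mod RM W') {e : Finset (Fin 8)} {w : Finset Y4} (hw : e.disjSum w ∈ W) :
    ∃ e' : Finset (Fin 8), e'.disjSum w ∈ W' := by
  set O : Finset (Fin 8 ⊕ Y4) := (univ : Finset (Fin 8)).disjSum (∅ : Finset Y4) with hO
  have hO8 : O.card = 8 := by rw [hO, Finset.card_disjSum]; simp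
  set R : Finset (Finset Y4) := Finset.univ.filter (fun r => (∅ : Finset (Fin 8)).disjSum r ∈ W') with hR
  have memR : ∀ r, r ∈ R ↔ (∅ : Finset (Fin 8)).disjSum r ∈ W' := by intro r; simp [hR]
  have hRc : Closed R := by
    refine ⟨?_, ?_⟩
    · rw [memR]
      have : (∅ : Finset (Fin 8)).disjSum (∅ : Finset Y4) = ∅ := by simp
      rw [this]; exact h'.zero
    · intro s hs t ht
      rw [memR] at hs ht ⊢
      have := h'.add _ hs _ ht
      rw [ds_sd, symmDiff_self] at this
      exact this
  have hRcard : R.card = 32 := by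
    rw [← h'.card_away h'.oct hO8]
    apply Finset.card_bij' (fun r _ => (∅ : Finset (Fin 8)).disjSum r) (fun s _ => s.toRight)
    · intro r hr
      rw [mem_away]
      refine ⟨(memR r).1 hr, ?_⟩
      rw [Finset.disjoint_iff_inter_eq_empty, ds_inter]; simp
    · intro s hs
      rw [mem_away] at hs
      rw [memR]
      have : s.toLeft = ∅ := by
        rw [Finset.eq_empty_iff_forall_notMem]
        intro x hx
        rw [Finset.mem_toLeft] at hx
        exact Finset.disjoint_left.1 hs.2 hx (by simp [hO])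
      rw [← this, ds_eta]; exact hs.1
    · intro r _; exact Finset.toRight_disjSum
    · intro s hs
      rw [mem_away] at hs
      have : s.toLeft = ∅ := by
        rw [Finset.eq_empty_iff_forall_notMem]
        intro x hx
        rw [Finset.mem_toLeft] at hx
        exact Finset.disjoint_left.1 hs.2 hx (by simp [hO])
      show (∅ : Finset (Fin 8)).disjSum s.toRight = s
      rw [← this, ds_eta]
  have hperp := card_mul_perp hRc
  rw [hRcard] at hperp
  have hcY : Fintype.card Y4 = 16 := by simp [Y4]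
  rw [hcY] at hperp
  set P : Finset (Finset Y4) := W'.image Finset.toRight with hP
  have hPsub : P ⊆ perp R := by
    intro v hv
    rw [hP, mem_image] at hv
    obtain ⟨s, hs, rfl⟩ := hv
    rw [mem_perp]
    intro r hr
    have h1 := h'.even hs ((memR r).1 hr)
    rw [← ds_eta s, ds_inter, Finset.card_disjSum] at h1
    simpa using h1
  have hPcard : W'.card = 2 * P.card := by
    rw [Finset.card_eq_sum_card_image Finset.toRight W', ← hP]
    rw [Finset.sum_congr rfl (g := fun _ => 2)]
    · rw [Finset.sum_const, smul_eq_mul, mul_comm]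
    · intro v hv
      rw [hP, mem_image] at hv
      obtain ⟨s, hs, rfl⟩ := hv
      have hsO : symmDiff s O ∈ W' := h'.add _ hs _ h'.oct
      have : (W'.filter (fun a => a.toRight = s.toRight)) = {s, symmDiff s O} := by
        ext t
        rw [mem_filter, mem_insert, mem_singleton]
        constructor
        · rintro ⟨ht, htr⟩
          have h1 := h'.add _ hs _ ht
          have h2 : symmDiff s t = (symmDiff s.toLeft t.toLeft).disjSum ∅ := by
            conv_lhs => rw [← ds_eta s, ← ds_eta t, ds_sd, htr, symmDiff_self]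
            rfl
          rw [h2] at h1
          rcases h'.left_only h1 with h3 | h3
          · left
            rw [← ds_eta s, ← ds_eta t, htr, symmDiff_eq_bot.1 h3]
          · right
            rw [h3, ← hO] at h2
            rw [← h2, symmDiff_symmDiff_cancel_left]
        · rintro (rfl | rfl)
          · exact ⟨hs, rfl⟩
          · refine ⟨hsO, ?_⟩
            conv_lhs => rw [← ds_eta s, hO, ds_sd]
            simp
      rw [this, Finset.card_pair]
      intro hc
      have h3 : symmDiff s (symmDiff s O) = O := symmDiff_symmDiff_cancel_left s O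
      rw [← hc, symmDiff_self] at h3
      have h4 : O.card = 0 := by rw [← h3]; rfl
      omega
  rw [h'.card] at hPcard
  have hPeq : P = perp R := Finset.eq_of_subset_of_card_le hPsub (by omega)
  have hwP : w ∈ perp R := by
    rw [mem_perp]
    intro r hr
    have h1 : (∅ : Finset (Fin 8)).disjSum r ∈ W := (h.rm r).2 ((h'.rm r).1 ((memR r).1 hr))
    have h2 := h.even hw h1
    rw [ds_inter, Finset.card_disjSum] at h2
    simpa using h2
  rw [← hPeq, hP, mem_image] at hwP
  obtain ⟨s, hs, rfl⟩ := hwP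
  exact ⟨s.toLeft, by rw [ds_eta]; exact hs⟩

/-- the correspondence of the left parts -/
def rho (W W' : Finset (Finset (Fin 8 ⊕ Y4))) (e e' : Finset (Fin 8)) : Prop :=
  ∃ w : Finset Y4, e.disjSum w ∈ W ∧ e'.disjSum w ∈ W'

theorem rho_symm {e e' : Finset (Fin 8)} (h : rho W W' e e') : rho W' W e' e := by
  obtain ⟨w, h1, h2⟩ := h; exact ⟨w, h2, h1⟩

theorem rho_add (h : Closed W) (h' : Closed W') {e1 e1' e2 e2' : Finset (Fin 8)} (h1 : rho W W' e1 e1')
    (h2 : rho W W' e2 e2') : rho W W' (symmDiff e1 e2) (symmDiff e1' e2') := by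
  obtain ⟨w1, a1, b1⟩ := h1
  obtain ⟨w2, a2, b2⟩ := h2
  refine ⟨symmDiff w1 w2, ?_, ?_⟩
  · rw [← ds_sd]; exact h.add _ a1 _ a2
  · rw [← ds_sd]; exact h'.add _ b1 _ b2

theorem rho_exists (h : Mod RM W) (h' : Mod RM W') {e : Finset (Fin 8)} (he : Even e.card) : ∃ e', rho W W' e e' := by
  obtain ⟨w, hw⟩ := h.exists_right he
  obtain ⟨e', he'⟩ := h.proj h' hw
  exact ⟨e', w, hw, he'⟩

theorem rho_card (h : GF W) (h' : GF W') {e e' : Finset (Fin 8)} (hr : rho W W' e e') : e.card % 4 = e'.card % 4 := by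
  obtain ⟨w, a, b⟩ := hr
  have h1 := h.de.1 _ a
  have h2 := h'.de.1 _ b
  rw [Finset.card_disjSum] at h1 h2
  omega

theorem rho_empty (h : Mod RM W) (h' : Mod RM W') {e' : Finset (Fin 8)} (hr : rho W W' ∅ e') : e' = ∅ ∨ e' = univ := by
  obtain ⟨w, a, b⟩ := hr
  have h1 : (∅ : Finset (Fin 8)).disjSum w ∈ W' := (h'.rm w).2 ((h.rm w).1 a)
  have h2 := h'.add _ b _ h1
  rw [ds_sd, symmDiff_self] at h2
  have h3 : symmDiff e' ∅ = e' := by
    have := symmDiff_bot e'; exact this
  rw [h3] at h2
  exact h'.left_only h2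

theorem rho_compl (h' : Mod RM W') {e e' : Finset (Fin 8)} (hr : rho W W' e e') : rho W W' e e'ᶜ := by
  obtain ⟨w, a, b⟩ := hr
  refine ⟨w, a, ?_⟩
  have := h'.add _ b _ h'.oct
  rw [ds_sd, ← compl_eq_sd] at this
  have h3 : symmDiff w ∅ = w := symmDiff_bot w
  rwa [h3] at this

theorem rho_pair (h : Mod RM W) (h' : Mod RM W') {e : Finset (Fin 8)} (he : e.card = 2) :
    ∃ q : Finset (Fin 8), q.card = 2 ∧ rho W W' e q := by
  obtain ⟨e', he'⟩ := rho_exists h h' (e := e) (by rw [he]; decide)
  have h1 := rho_card h.toGF h'.toGF he'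
  have h2 := Finset.card_le_univ e'
  simp only [Fintype.card_fin] at h2
  by_cases h3 : e'.card = 2
  · exact ⟨e', h3, he'⟩
  · refine ⟨e'ᶜ, ?_, rho_compl h' he'⟩
    rw [Finset.card_compl, Fintype.card_fin]; omega

/-- pairwise intersecting distinct edges in a family of seven form a star -/
theorem star (p : Fin 8 → Finset (Fin 8)) (h2 : ∀ i ≠ 0, (p i).card = 2)
    (h : ∀ i j, i ≠ 0 → j ≠ 0 → i ≠ j → (p i ∩ p j).card = 1) : ∃ c, ∀ i ≠ 0, c ∈ p i := by
  obtain ⟨c, hc⟩ := Finset.card_eq_one.1 (h 1 2 (by decide) (by decide) (by decide))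
  have hc12 : c ∈ p 1 ∩ p 2 := by rw [hc]; exact mem_singleton_self c
  rw [mem_inter] at hc12
  refine ⟨c, ?_⟩
  -- uniqueness of common points
  have huq : ∀ i j, i ≠ 0 → j ≠ 0 → i ≠ j → ∀ x y, x ∈ p i → x ∈ p j → y ∈ p i → y ∈ p j → x = y := by
    intro i j hi hj hij x y hx1 hx2 hy1 hy2
    obtain ⟨d, hd⟩ := Finset.card_eq_one.1 (h i j hi hj hij)
    have e1 : x ∈ p i ∩ p j := mem_inter.2 ⟨hx1, hx2⟩
    have e2 : y ∈ p i ∩ p j := mem_inter.2 ⟨hy1, hy2⟩
    rw [hd, mem_singleton] at e1 e2
    rw [e1, e2]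
  have hex : ∀ i j, i ≠ 0 → j ≠ 0 → i ≠ j → ∃ x, x ∈ p i ∧ x ∈ p j := by
    intro i j hi hj hij
    obtain ⟨d, hd⟩ := Finset.card_eq_one.1 (h i j hi hj hij)
    have e1 : d ∈ p i ∩ p j := by rw [hd]; exact mem_singleton_self d
    exact ⟨d, mem_inter.1 e1⟩
  obtain ⟨a, ha, ha'⟩ : ∃ a, a ≠ c ∧ p 1 = {c, a} := by
    obtain ⟨x, y, hxy, he⟩ := Finset.card_eq_two.1 (h2 1 (by decide))
    have := hc12.1
    rw [he, mem_insert, mem_singleton] at this
    rcases this with rfl | rfl
    · exact ⟨y, hxy.symm, he⟩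
    · exact ⟨x, hxy, by rw [he, Finset.pair_comm]⟩
  obtain ⟨b, hb, hb'⟩ : ∃ b, b ≠ c ∧ p 2 = {c, b} := by
    obtain ⟨x, y, hxy, he⟩ := Finset.card_eq_two.1 (h2 2 (by decide))
    have := hc12.2
    rw [he, mem_insert, mem_singleton] at this
    rcases this with rfl | rfl
    · exact ⟨y, hxy.symm, he⟩
    · exact ⟨x, hxy, by rw [he, Finset.pair_comm]⟩
  have hab : a ≠ b := by
    intro hab
    apply ha
    apply huq 1 2 (by decide) (by decide) (by decide) a c
    · rw [ha']; simp
    · rw [hb', hab]; simp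
    · exact hc12.1
    · exact hc12.2
  intro i hi
  by_contra hci
  have hi1 : i ≠ 1 := by rintro rfl; exact hci hc12.1
  have hi2 : i ≠ 2 := by rintro rfl; exact hci hc12.2
  have key : ∀ k, k ≠ 0 → k ≠ 1 → k ≠ 2 → c ∉ p k → a ∈ p k ∧ b ∈ p k := by
    intro k hk hk1 hk2 hck
    obtain ⟨x, hx1, hx2⟩ := hex k 1 hk (by decide) hk1
    obtain ⟨y, hy1, hy2⟩ := hex k 2 hk (by decide) hk2
    rw [ha', mem_insert, mem_singleton] at hx2
    rw [hb', mem_insert, mem_singleton] at hy2
    rcases hx2 with rfl | rfl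
    · exact absurd hx1 hck
    · rcases hy2 with rfl | rfl
      · exact absurd hy1 hck
      · exact ⟨hx1, hy1⟩
  obtain ⟨hia, hib⟩ := key i hi hi1 hi2 hci
  have hpi : p i = {a, b} := by
    symm
    apply Finset.eq_of_subset_of_card_le
    · intro z hz
      rw [mem_insert, mem_singleton] at hz
      rcases hz with rfl | rfl
      · exact hia
      · exact hib
    · rw [h2 i hi, Finset.card_pair hab]
  have hfin : ∀ i : Fin 8, ∃ j : Fin 8, j ≠ 0 ∧ j ≠ 1 ∧ j ≠ 2 ∧ j ≠ i := by decide
  obtain ⟨j, hj0, hj1, hj2, hji⟩ := hfin i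
  obtain ⟨x, hx1, hx2⟩ := hex j i hj0 hi hji
  rw [hpi, mem_insert, mem_singleton] at hx2
  have hcj : c ∉ p j := by
    intro hcj
    rcases hx2 with rfl | rfl
    · exact ha (huq j 1 hj0 (by decide) hj1 x c hx1 (by rw [ha']; simp) hcj hc12.1)
    · exact hb (huq j 2 hj0 (by decide) hj2 x c hx1 (by rw [hb']; simp) hcj hc12.2)
  obtain ⟨hja, hjb⟩ := key j hj0 hj1 hj2 hcj
  exact hab (huq j i hj0 hi hji a b hja hia hjb hib)

theorem Mod.unique (h : Mod RM W) (h' : Mod RM W') : ∃ σ : Equiv.Perm (Fin 8), ∀ (e : Finset (Fin 8)) (w : Finset Y4),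
    e.disjSum w ∈ W ↔ (e.map σ.toEmbedding).disjSum w ∈ W' := by
  have hp : ∀ i : Fin 8, ∃ q : Finset (Fin 8), i ≠ 0 → q.card = 2 ∧ rho W W' {0, i} q := by
    intro i
    by_cases hi : i = 0
    · exact ⟨∅, fun hh => absurd hi hh⟩
    · obtain ⟨q, hq⟩ := rho_pair h h' (e := {0, i}) (Finset.card_pair (Ne.symm hi))
      exact ⟨q, fun _ => hq⟩
  choose p hp using hp
  have hsd : ∀ i j : Fin 8, i ≠ 0 → j ≠ 0 → i ≠ j → symmDiff ({0, i} : Finset (Fin 8)) {0, j} = {i, j} := by
    decide
  have h1 : ∀ i j, i ≠ 0 → j ≠ 0 → i ≠ j → (p i ∩ p j).card = 1 := by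
    intro i j hi hj hij
    have a1 := rho_add h.toClosed h'.toClosed (hp i hi).2 (hp j hj).2
    rw [hsd i j hi hj hij] at a1
    have a2 := rho_card h.toGF h'.toGF a1
    rw [Finset.card_pair hij] at a2
    have a3 := card_sd (p i) (p j)
    rw [(hp i hi).1, (hp j hj).1] at a3
    omega
  obtain ⟨c, hc⟩ := star p (fun i hi => (hp i hi).1) h1
  have hf : ∀ i : Fin 8, ∃ x : Fin 8, (i = 0 → x = c) ∧ (i ≠ 0 → x ≠ c ∧ p i = {c, x}) := by
    intro i
    by_cases hi : i = 0
    · exact ⟨c, fun _ => rfl, fun hh => absurd hi hh⟩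
    · obtain ⟨x, y, hxy, he⟩ := Finset.card_eq_two.1 (hp i hi).1
      have := hc i hi
      rw [he, mem_insert, mem_singleton] at this
      rcases this with h3 | h3
      · exact ⟨y, fun hh => absurd hh hi, fun _ => ⟨by rw [h3]; exact hxy.symm, by rw [he, h3]⟩⟩
      · exact ⟨x, fun hh => absurd hh hi, fun _ => ⟨by rw [h3]; exact hxy, by rw [he, h3, Finset.pair_comm]⟩⟩
  choose f hf0 hf1 using hf
  have hinj : Function.Injective f := by
    intro i j hij
    by_contra hne
    by_cases hi : i = 0
    · have hj : j ≠ 0 := fun hj => hne (hi.trans hj.symm)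
      exact (hf1 j hj).1 (by rw [← hij, hf0 i hi])
    · by_cases hj : j = 0
      · exact (hf1 i hi).1 (by rw [hij, hf0 j hj])
      · have a1 := h1 i j hi hj hne
        rw [(hf1 i hi).2, (hf1 j hj).2, hij, Finset.inter_self, Finset.card_pair (hf1 j hj).1.symm] at a1
        omega
  set σ : Equiv.Perm (Fin 8) := Equiv.ofBijective f (Finite.injective_iff_bijective.1 hinj) with hσ
  have hσa : ∀ i, σ i = f i := fun i => rfl
  have hσ0 : σ 0 = c := by rw [hσa, hf0 0 rfl]
  have hpair : ∀ i, i ≠ 0 → rho W W' {0, i} {σ 0, σ i} := by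
    intro i hi
    rw [hσ0, hσa, ← (hf1 i hi).2]
    exact (hp i hi).2
  have hmap_sd : ∀ e e' : Finset (Fin 8), (symmDiff e e').map σ.toEmbedding =
      symmDiff (e.map σ.toEmbedding) (e'.map σ.toEmbedding) := by
    intro e e'
    ext x
    simp only [mem_symmDiff, mem_map_equiv]
  have hmain : ∀ e : Finset (Fin 8), (Even e.card → rho W W' e (e.map σ.toEmbedding)) ∧
      (¬ Even e.card → rho W W' (symmDiff e {0}) ((symmDiff e {0}).map σ.toEmbedding)) := by
    intro e
    induction' e using Finset.induction_on with i e hie ih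
    · refine ⟨fun _ => ⟨∅, ?_, ?_⟩, fun hh => absurd (by simp) hh⟩
      · have : (∅ : Finset (Fin 8)).disjSum (∅ : Finset Y4) = ∅ := by simp
        rw [this]; exact h.zero
      · have : ((∅ : Finset (Fin 8)).map σ.toEmbedding).disjSum (∅ : Finset Y4) = ∅ := by simp
        rw [this]; exact h'.zero
    · rw [Finset.card_insert_of_notMem hie]
      have hpair' : ∀ i, i ≠ 0 → rho W W' {0, i} (({0, i} : Finset (Fin 8)).map σ.toEmbedding) := by
        intro i hi
        have := hpair i hi
        rwa [show ({0, i} : Finset (Fin 8)).map σ.toEmbedding = {σ 0, σ i} by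
          ext x; simp]
      refine ⟨fun hev => ?_, fun hod => ?_⟩
      · have hodd : ¬ Even e.card := by rw [Nat.even_iff] at hev ⊢; omega
        have a1 := ih.2 hodd
        by_cases hi : i = 0
        · have : insert i e = symmDiff e {0} := by
            ext x; simp only [mem_insert, mem_symmDiff, mem_singleton]
            subst hi
            by_cases hx : x = 0
            · subst hx; tauto
            · tauto
          rw [this]; exact a1
        · have : insert i e = symmDiff (symmDiff e {0}) {0, i} := by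
            ext x; simp only [mem_insert, mem_symmDiff, mem_singleton]
            by_cases hx : x = i
            · subst hx; tauto
            · tauto
          rw [this, hmap_sd]
          exact rho_add h.toClosed h'.toClosed a1 (hpair' i hi)
      · have heven : Even e.card := by rw [Nat.even_iff] at hod ⊢; omega
        have a1 := ih.1 heven
        by_cases hi : i = 0
        · have : symmDiff (insert i e) {0} = e := by
            ext x; simp only [mem_insert, mem_symmDiff, mem_singleton]
            subst hi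
            by_cases hx : x = 0
            · subst hx; tauto
            · tauto
          rw [this]; exact a1
        · have : symmDiff (insert i e) {0} = symmDiff e {0, i} := by
            ext x; simp only [mem_insert, mem_symmDiff, mem_singleton]
            by_cases hx : x = i
            · subst hx; tauto
            · tauto
          rw [this, hmap_sd]
          exact rho_add h.toClosed h'.toClosed a1 (hpair' i hi)
  refine ⟨σ, fun e w => ⟨fun hw => ?_, fun hw => ?_⟩⟩
  · obtain ⟨w1, a, b⟩ := (hmain e).1 (h.left_even hw)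
    have h3 := h.add _ hw _ a
    rw [ds_sd, symmDiff_self] at h3
    have h4 := (h'.rm _).2 ((h.rm _).1 h3)
    have h5 := h'.add _ b _ h4
    rw [ds_sd] at h5
    have e1 : symmDiff (e.map σ.toEmbedding) ∅ = e.map σ.toEmbedding := symmDiff_bot _
    have e2 : symmDiff w1 (symmDiff w w1) = w := by
      rw [symmDiff_comm w, symmDiff_symmDiff_cancel_left]
    rwa [e1, e2] at h5
  · have hev : Even e.card := by
      have := h'.left_even hw
      rwa [Finset.card_map] at this
    obtain ⟨w1, a, b⟩ := (hmain e).1 hev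
    have h3 := h'.add _ hw _ b
    rw [ds_sd, symmDiff_self] at h3
    have h4 := (h.rm _).2 ((h'.rm _).1 h3)
    have h5 := h.add _ a _ h4
    rw [ds_sd] at h5
    have e1 : symmDiff e ∅ = e := symmDiff_bot _
    have e2 : symmDiff w1 (symmDiff w w1) = w := by
      rw [symmDiff_comm w, symmDiff_symmDiff_cancel_left]
    rwa [e1, e2] at h5

end Cfsg.Agent.Lib.GolU
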