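import Cfsg.Agent.Lib.GolU.Code

/-!
The words of a Golay family disjoint from an octad.
-/

set_option autoImplicit false

namespace Cfsg.Agent.Lib.GolU

open Cfsg Finset

variable {α : Type*} [Fintype α] [DecidableEq α] {W : Finset (Finset α)}

theorem dj {s t : Finset α} (h : Disjoint s t) (x : α) : ¬ (x ∈ s ∧ x ∈ t) :=
  fun hx => Finset.disjoint_left.1 h hx.1 hx.2

theorem GF.exists_octad' (h : GF W) : ∃ o ∈ W, o.card = 8 := by
  obtain ⟨s, _, hs⟩ := Finset.exists_subset_card_eq (s := (Finset.univ : Finset α)) (n := 5) (by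
    rw [Finset.card_univ, h.pts]; norm_num)
  obtain ⟨o, ho, h8, _⟩ := h.exists_octad hs
  exact ⟨o, ho, h8⟩

theorem GF.self_tet {T : Finset α} (h : GF W) (hT : T.card = 4) : T ∈ tet W T := by
  rw [mem_tet]
  refine ⟨hT, ?_⟩
  rw [symmDiff_self]; exact h.zero

theorem GF.tet_sub (h : GF W) {T O : Finset α} (hO : O ∈ W) (hO8 : O.card = 8) (hT : T.card = 4) (hTO : T ⊆ O) :
    O \ T ∈ tet W T := by
  rw [mem_tet]
  refine ⟨by rw [Finset.card_sdiff_of_subset hTO]; omega, ?_⟩
  have : symmDiff T (O \ T) = O := by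
    ext x; simp only [mem_symmDiff, mem_sdiff]
    have := @hTO x
    tauto
  rw [this]; exact hO

/-- a four-subset of an octad is the trace of a word -/
theorem GF.trace4 (h : GF W) {T O : Finset α} (hO : O ∈ W) (hO8 : O.card = 8) (hT : T.card = 4) (hTO : T ⊆ O) :
    ∃ w ∈ W, w ∩ O = T := by
  have h6 := h.tet_card hT
  obtain ⟨x, hx⟩ : ∃ x, x ∉ O := by
    by_contra hc
    push Not at hc
    have := Finset.card_le_card (show Finset.univ ⊆ O from fun x _ => hc x)
    rw [Finset.card_univ, h.pts] at this; omega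
  obtain ⟨T', hT', hxT'⟩ := h.tet_cover h6 x
  have h1 : Disjoint T' T := h.tet_disj hT' (h.self_tet hT) (by rintro rfl; exact hx (hTO hxT'))
  have h2 : Disjoint T' (O \ T) := h.tet_disj hT' (h.tet_sub hO hO8 hT hTO) (by
    rintro rfl; exact hx (mem_sdiff.1 hxT').1)
  refine ⟨symmDiff T T', (mem_tet.1 hT').2, ?_⟩
  ext y
  simp only [mem_inter, mem_symmDiff]
  have a1 := dj h1 y
  have a2 := dj h2 y
  rw [mem_sdiff] at a2
  have a3 := @hTO y
  tauto

theorem sd_inter_distrib (s t O : Finset α) : symmDiff s t ∩ O = symmDiff (s ∩ O) (t ∩ O) := by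
  ext x; simp only [mem_inter, mem_symmDiff]; tauto

theorem GF.trace_even (h : GF W) {O : Finset α} (hO : O ∈ W) (hO8 : O.card = 8) {E : Finset α} (hE : E ⊆ O)
    (hev : Even E.card) : ∃ w ∈ W, w ∩ O = E := by
  have hpair : ∀ x ∈ O, ∀ y ∈ O, x ≠ y → ∃ w ∈ W, w ∩ O = {x, y} := by
    intro x hx y hy hxy
    have h6 : 3 ≤ (O \ {x, y}).card := by
      rw [Finset.card_sdiff_of_subset (by intro z hz; rcases mem_insert.1 hz with rfl | hz; exact hx; rw [mem_singleton.1 hz]; exact hy),
        Finset.card_pair hxy]; omega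
    obtain ⟨U, hU, hU3⟩ := Finset.exists_subset_card_eq h6
    have hxU : x ∉ U := fun hxU => by have := hU hxU; simp at this
    have hyU : y ∉ U := fun hyU => by have := hU hyU; simp at this
    have hUO : U ⊆ O := hU.trans Finset.sdiff_subset
    obtain ⟨w1, hw1, e1⟩ := h.trace4 hO hO8 (T := insert x U) (by rw [Finset.card_insert_of_notMem hxU]; omega)
      (Finset.insert_subset hx hUO)
    obtain ⟨w2, hw2, e2⟩ := h.trace4 hO hO8 (T := insert y U) (by rw [Finset.card_insert_of_notMem hyU]; omega)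
      (Finset.insert_subset hy hUO)
    refine ⟨_, h.add _ hw1 _ hw2, ?_⟩
    rw [sd_inter_distrib, e1, e2]
    ext z
    simp only [mem_symmDiff, mem_insert, mem_singleton]
    by_cases hzx : z = x
    · subst hzx; tauto
    · by_cases hzy : z = y
      · subst hzy; tauto
      · tauto
  induction' hn : E.card using Nat.strong_induction_on with n ih generalizing E
  by_cases h0 : E = ∅
  · exact ⟨∅, h.zero, by rw [h0]; simp⟩
  · obtain ⟨x, hx⟩ := Finset.nonempty_iff_ne_empty.2 h0
    have h1 : (E.erase x).card = E.card - 1 := Finset.card_erase_of_mem hx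
    have h2 : 0 < E.card := Finset.card_pos.2 ⟨x, hx⟩
    have h3 : (E.erase x).Nonempty := by
      rw [← Finset.card_pos]; rw [Nat.even_iff] at hev; omega
    obtain ⟨y, hy⟩ := h3
    have hyx : y ≠ x := (mem_erase.1 hy).1
    have h4 : ((E.erase x).erase y).card = E.card - 2 := by
      rw [Finset.card_erase_of_mem hy]; omega
    obtain ⟨w1, hw1, e1⟩ := ih _ (by omega) (E := (E.erase x).erase y)
      ((Finset.erase_subset _ _).trans ((Finset.erase_subset _ _).trans hE))
      (by rw [h4]; rw [Nat.even_iff] at hev ⊢; omega) h4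
    obtain ⟨w2, hw2, e2⟩ := hpair x (hE hx) y (hE (mem_erase.1 hy).2) hyx.symm
    refine ⟨_, h.add _ hw1 _ hw2, ?_⟩
    rw [sd_inter_distrib, e1, e2]
    ext z
    simp only [mem_symmDiff, mem_erase, mem_insert, mem_singleton]
    have hyE := (mem_erase.1 hy).2
    by_cases hzx : z = x
    · subst hzx; tauto
    · by_cases hzy : z = y
      · subst hzy; tauto
      · tauto

/-- words disjoint from `O` -/
def away (W : Finset (Finset α)) (O : Finset α) : Finset (Finset α) := W.filter (fun w => Disjoint w O)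

theorem mem_away {O w : Finset α} : w ∈ away W O ↔ w ∈ W ∧ Disjoint w O := by simp [away]

theorem GF.card_away_word (h : GF W) {O : Finset α} (hO : O ∈ W) (hO8 : O.card = 8) {w : Finset α}
    (hw : w ∈ away W O) : w = ∅ ∨ w = Oᶜ ∨ w.card = 8 := by
  rw [mem_away] at hw
  have h1 : w ⊆ Oᶜ := fun x hx => mem_compl.2 (Finset.disjoint_left.1 hw.2 hx)
  have h2 : Oᶜ.card = 16 := by rw [Finset.card_compl, h.pts, hO8]
  have h3 := h.de.1 w hw.1
  have h4 := Finset.card_le_card h1
  by_cases h5 : w.card < 8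
  · exact Or.inl (h.min w hw.1 h5)
  · by_cases h6 : w.card = 8
    · exact Or.inr (Or.inr h6)
    · right; left
      have h7 := card_sd w Oᶜ
      rw [Finset.inter_eq_left.2 h1] at h7
      exact symmDiff_eq_bot.1 (h.min _ (h.add _ hw.1 _ (h.compl_mem hO)) (by omega))

theorem GF.card_away (h : GF W) {O : Finset α} (hO : O ∈ W) (hO8 : O.card = 8) : (away W O).card = 32 := by
  have h2 : Oᶜ.card = 16 := by rw [Finset.card_compl, h.pts, hO8]
  have hpar := (Cfsg.Agent.Lib.Steiner.par_5_8_24 h.pts h.steiner (b := O) ⟨hO, hO8⟩).1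
  rw [Cfsg.Agent.Lib.Steiner.nn] at hpar
  have heq : away W O = insert ∅ (insert Oᶜ ((Cfsg.Agent.Lib.Steiner.blk (octs W)).filter (fun c => (c ∩ O).card = 0))) := by
    ext w
    rw [mem_insert, mem_insert, mem_filter, Cfsg.Agent.Lib.Steiner.mem_blk, Finset.card_eq_zero,
      ← Finset.disjoint_iff_inter_eq_empty]
    constructor
    · intro hw
      rcases h.card_away_word hO hO8 hw with h1 | h1 | h1
      · exact Or.inl h1
      · exact Or.inr (Or.inl h1)
      · exact Or.inr (Or.inr ⟨⟨(mem_away.1 hw).1, h1⟩, (mem_away.1 hw).2⟩)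
    · rintro (rfl | rfl | ⟨⟨h1, _⟩, h3⟩)
      · exact mem_away.2 ⟨h.zero, Finset.disjoint_empty_left _⟩
      · exact mem_away.2 ⟨h.compl_mem hO, disjoint_compl_left⟩
      · exact mem_away.2 ⟨h1, h3⟩
  rw [heq, Finset.card_insert_of_notMem, Finset.card_insert_of_notMem, hpar]
  · intro hc
    rw [mem_filter, Cfsg.Agent.Lib.Steiner.mem_blk] at hc
    have := hc.1.2
    omega
  · intro hc
    rw [mem_insert, mem_filter, Cfsg.Agent.Lib.Steiner.mem_blk] at hc
    rcases hc with hc | hc
    · rw [← hc] at h2; simp at h2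
    · have := hc.1.2
      simp at this

/-- the words away from `O` separate the points outside `O` -/
theorem GF.separates (h : GF W) {O : Finset α} (hO : O ∈ W) (hO8 : O.card = 8) {x y : α} (hx : x ∉ O) (hy : y ∉ O)
    (hxy : x ≠ y) : ∃ r ∈ away W O, x ∈ r ∧ y ∉ r := by
  obtain ⟨U, hUO, hU3⟩ := Finset.exists_subset_card_eq (show 3 ≤ O.card by omega)
  have hxU : x ∉ U := fun hh => hx (hUO hh)
  have hyU : y ∉ U := fun hh => hy (hUO hh)
  have hc5 : (insert x (insert y U)).card = 5 := by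
    rw [Finset.card_insert_of_notMem, Finset.card_insert_of_notMem hyU, hU3]
    rw [mem_insert]; push Not; exact ⟨hxy, hxU⟩
  obtain ⟨O', hO', hO'8, hsub⟩ := h.exists_octad hc5
  have hxO' : x ∈ O' := hsub (mem_insert_self _ _)
  have hyO' : y ∈ O' := hsub (mem_insert_of_mem (mem_insert_self _ _))
  have hUO' : U ⊆ O' := fun z hz => hsub (mem_insert_of_mem (mem_insert_of_mem hz))
  have h4 : (O ∩ O').card < 5 := by
    by_contra hc
    have := h.octad_eq hO hO' hO8 hO'8 (by omega)
    rw [this] at hx; exact hx hxO'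
  -- a point of `O` outside `O'`
  obtain ⟨z, hz⟩ : ∃ z ∈ O, z ∉ O' := by
    by_contra hc
    push Not at hc
    rw [Finset.inter_eq_left.2 hc] at h4; omega
  have hzU : z ∉ U := fun hh => hz.2 (hUO' hh)
  set T := insert z U with hTdef
  have hT4 : T.card = 4 := by rw [hTdef, Finset.card_insert_of_notMem hzU]; omega
  have hTO : T ⊆ O := Finset.insert_subset hz.1 hUO
  have h6 := h.tet_card hT4
  obtain ⟨Tx, hTx, hxTx⟩ := h.tet_cover h6 x
  obtain ⟨Ty, hTy, hyTy⟩ := h.tet_cover h6 y
  have hself := h.self_tet hT4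
  have hsub' := h.tet_sub hO hO8 hT4 hTO
  have hxT : x ∉ T := fun hh => hx (hTO hh)
  have hyT : y ∉ T := fun hh => hy (hTO hh)
  have hne : Tx ≠ Ty := by
    intro he
    subst he
    have hTTx : Disjoint T Tx := h.tet_disj hself hTx (by rintro rfl; exact hxT hxTx)
    have hw := (mem_tet.1 hTx).2
    have hw8 : (symmDiff T Tx).card = 8 := by
      have h1 := card_sd T Tx
      have h2 := (mem_tet.1 hTx).1
      rw [Finset.disjoint_iff_inter_eq_empty.1 hTTx, Finset.card_empty] at h1; omega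
    have hmem : ∀ p, p ∈ T ∨ p ∈ Tx → p ∈ symmDiff T Tx := by
      intro p hp
      rw [mem_symmDiff]
      have := dj hTTx p
      tauto
    have h5 : 5 ≤ (symmDiff T Tx ∩ O').card := by
      rw [← hc5]
      apply Finset.card_le_card
      intro p hp
      refine mem_inter.2 ⟨hmem p ?_, hsub hp⟩
      rcases mem_insert.1 hp with rfl | hp
      · exact Or.inr hxTx
      · rcases mem_insert.1 hp with rfl | hp
        · exact Or.inr hyTy
        · exact Or.inl (mem_insert_of_mem hp)
    have := h.octad_eq hw hO' hw8 hO'8 h5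
    apply hz.2
    rw [← this]
    exact hmem z (Or.inl (mem_insert_self _ _))
  -- a third tetrad
  obtain ⟨T3, hT3, h3⟩ : ∃ T3 ∈ tet W T, T3 ≠ T ∧ T3 ≠ O \ T ∧ T3 ≠ Tx ∧ T3 ≠ Ty := by
    by_contra hc
    push Not at hc
    have : tet W T ⊆ {T, O \ T, Tx, Ty} := by
      intro s hs
      simp only [mem_insert, mem_singleton]
      by_contra h7
      push Not at h7
      exact h7.2.2.2 (hc s hs h7.1 h7.2.1 h7.2.2.1)
    have h8 := (Finset.card_le_card this).trans Finset.card_le_four
    omega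
  have hTxT : Tx ≠ T := by rintro rfl; exact hxT hxTx
  have hTxO : Tx ≠ O \ T := by rintro rfl; exact hx (mem_sdiff.1 hxTx).1
  have hw : symmDiff Tx T3 ∈ W := by
    have := h.add _ (mem_tet.1 hTx).2 _ (mem_tet.1 hT3).2
    rwa [sd_cancel] at this
  refine ⟨symmDiff Tx T3, mem_away.2 ⟨hw, ?_⟩, ?_, ?_⟩
  · rw [Finset.disjoint_left]
    intro p hp hpO
    rw [mem_symmDiff] at hp
    by_cases hpT : p ∈ T
    · have a1 := dj (h.tet_disj hTx hself hTxT) p
      have a2 := dj (h.tet_disj hT3 hself h3.1) p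
      tauto
    · have a1 := dj (h.tet_disj hTx hsub' hTxO) p
      have a2 := dj (h.tet_disj hT3 hsub' h3.2.1) p
      rw [mem_sdiff] at a1 a2
      tauto
  · rw [mem_symmDiff]
    exact Or.inl ⟨hxTx, Finset.disjoint_left.1 (h.tet_disj hTx hT3 h3.2.2.1.symm) hxTx⟩
  · rw [mem_symmDiff]
    have a1 := Finset.disjoint_left.1 (h.tet_disj hTy hTx hne.symm) hyTy
    have a2 := Finset.disjoint_left.1 (h.tet_disj hTy hT3 h3.2.2.2.symm) hyTy
    tauto

end Cfsg.Agent.Lib.GolU
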