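import Cfsg.Agent.Lib.GolU.AutS
import Mathlib.Combinatorics.SimpleGraph.StronglyRegular

/-!
The block graph and the point-block graph of an S(3, 6, 22).
-/

set_option autoImplicit false

namespace Cfsg.Agent.Lib.GolU

open Cfsg Finset
open Cfsg.Agent.Lib.Steiner

section
variable {α : Type*} [Fintype α] [DecidableEq α] {B : Set (Finset α)}

theorem s22_pt (hα : Fintype.card α = 22) (hB : IsSteinerSystem 3 6 B) (a : α) :
    ((blk B).filter (fun c => a ∈ c)).card = 21 := by
  have := card_through hB (P := {a}) (by simp)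
  simp only [hα, Finset.card_singleton, Finset.singleton_subset_iff] at this
  rw [show Nat.choose (6 - 1) (3 - 1) = 10 by decide, show Nat.choose (22 - 1) (3 - 1) = 210 by decide] at this
  omega

theorem s22_pair (hα : Fintype.card α = 22) (hB : IsSteinerSystem 3 6 B) {a a' : α} (h : a ≠ a') :
    ((blk B).filter (fun c => a ∈ c ∧ a' ∈ c)).card = 5 := by
  have := card_through hB (P := {a, a'}) (by rw [Finset.card_pair h]; norm_num)
  rw [hα, Finset.card_pair h] at this
  have e : (blk B).filter (fun c => ({a, a'} : Finset α) ⊆ c) = (blk B).filter (fun c => a ∈ c ∧ a' ∈ c) := by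
    ext c
    simp only [mem_filter, Finset.insert_subset_iff, Finset.singleton_subset_iff]
  rw [e, show Nat.choose (6 - 2) (3 - 2) = 4 by decide, show Nat.choose (22 - 2) (3 - 2) = 20 by decide] at this
  omega

theorem s22_all (hα : Fintype.card α = 22) (hB : IsSteinerSystem 3 6 B) : (blk B).card = 77 := by
  have := card_through hB (P := ∅) (by simp)
  rw [hα] at this
  simp only [Finset.card_empty, Finset.empty_subset, Finset.filter_true, Nat.sub_zero] at this
  rw [show Nat.choose 6 3 = 20 by decide, show Nat.choose 22 3 = 1540 by decide] at this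
  omega

theorem s22_disj (hα : Fintype.card α = 22) (hB : IsSteinerSystem 3 6 B) {b : Finset α} (hb : b ∈ B) :
    ((blk B).filter (fun c => Disjoint c b)).card = 16 := by
  have := (par_3_6_22 hα hB hb).1
  rw [nn] at this
  rw [← this]
  congr 1
  ext c
  simp only [mem_filter, Finset.card_eq_zero, Finset.disjoint_iff_inter_eq_empty]

theorem s22_inter (hα : Fintype.card α = 22) (hB : IsSteinerSystem 3 6 B) {b c : Finset α} (hb : b ∈ B) (hc : c ∈ B)
    (h : b ≠ c) : (b ∩ c).card = 0 ∨ (b ∩ c).card = 2 := by
  have hlt : (b ∩ c).card < 3 := by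
    by_contra h'
    exact h (block_eq hB hb hc (by omega))
  obtain ⟨_, h1, _⟩ := par_3_6_22 hα hB hc
  have := nn_zero_iff h1 hb
  omega

theorem sum_inter (S : Finset (Finset α)) (X : Finset α) :
    ∑ c ∈ S, (c ∩ X).card = ∑ x ∈ X, (S.filter (fun c => x ∈ c)).card := by
  have h1 := Finset.sum_card_bipartiteAbove_eq_sum_card_bipartiteBelow (fun (b : Finset α) (x : α) => x ∈ b)
    (s := S) (t := X)
  have h2 : ∀ c ∈ S, (Finset.bipartiteAbove (fun (b : Finset α) (x : α) => x ∈ b) X c).card = (c ∩ X).card := by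
    intro c _
    congr 1
    ext x
    simp only [Finset.bipartiteAbove, mem_filter, mem_inter]; tauto
  rw [Finset.sum_congr rfl h2] at h1
  rw [h1]; rfl

theorem sum_two {S : Finset (Finset α)} {X : Finset α} (h : ∀ c ∈ S, (c ∩ X).card = 0 ∨ (c ∩ X).card = 2) :
    ∑ c ∈ S, (c ∩ X).card + 2 * (S.filter (fun c => (c ∩ X).card = 0)).card = 2 * S.card := by
  have h1 : ∀ c ∈ S, (c ∩ X).card = 2 * (if (c ∩ X).card = 2 then 1 else 0) := by
    intro c hc
    rcases h c hc with h | h <;> simp [h]
  rw [Finset.sum_congr rfl h1, ← Finset.mul_sum, ← Finset.card_filter]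
  have h2 := Finset.card_filter_add_card_filter_not (s := S) (fun c => (c ∩ X).card = 0)
  have h3 : S.filter (fun c => ¬ (c ∩ X).card = 0) = S.filter (fun c => (c ∩ X).card = 2) := by
    apply Finset.filter_congr
    intro c hc
    rcases h c hc with h | h <;> simp [h]
  rw [h3] at h2
  omega

theorem s22_pt_disj (hα : Fintype.card α = 22) (hB : IsSteinerSystem 3 6 B) {b : Finset α} (hb : b ∈ B) {a : α} (ha : a ∉ b) :
    ((blk B).filter (fun c => a ∈ c ∧ Disjoint c b)).card = 6 := by
  have h1 := sum_two (S := (blk B).filter (fun c => a ∈ c)) (X := b) (by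
    intro c hc
    rw [mem_filter, mem_blk] at hc
    exact s22_inter hα hB hc.1 hb (by rintro rfl; exact ha hc.2))
  rw [s22_pt hα hB, sum_inter] at h1
  have h2 : ∀ x ∈ b, (((blk B).filter (fun c => a ∈ c)).filter (fun c => x ∈ c)).card = 5 := by
    intro x hx
    rw [Finset.filter_filter]
    exact s22_pair hα hB (by rintro rfl; exact ha hx)
  rw [Finset.sum_congr rfl h2, Finset.sum_const, hB.1 b hb, Finset.filter_filter] at h1
  have h3 : (blk B).filter (fun c => a ∈ c ∧ (c ∩ b).card = 0) = (blk B).filter (fun c => a ∈ c ∧ Disjoint c b) := by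
    apply Finset.filter_congr
    intro c _
    rw [Finset.card_eq_zero, Finset.disjoint_iff_inter_eq_empty]
  rw [h3, smul_eq_mul] at h1
  omega

theorem s22_two (hα : Fintype.card α = 22) (hB : IsSteinerSystem 3 6 B) {b c : Finset α} (hb : b ∈ B) (hc : c ∈ B)
    (hbc : b ≠ c) : ((blk B).filter (fun d => Disjoint d b ∧ Disjoint d c)).card = if Disjoint b c then 0 else 4 := by
  have hsum := sum_inter ((blk B).filter (fun d => Disjoint d b)) c
  have h2 : ∑ x ∈ c, (((blk B).filter (fun d => Disjoint d b)).filter (fun d => x ∈ d)).card = 6 * (c \ b).card := by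
    rw [← Finset.sum_sdiff (Finset.inter_subset_left : c ∩ b ⊆ c)]
    have e1 : ∑ x ∈ c ∩ b, (((blk B).filter (fun d => Disjoint d b)).filter (fun d => x ∈ d)).card = 0 := by
      apply Finset.sum_eq_zero
      intro x hx
      rw [Finset.card_eq_zero, Finset.filter_eq_empty_iff]
      intro d hd hxd
      rw [mem_filter] at hd
      exact Finset.disjoint_left.1 hd.2 hxd (mem_inter.1 hx).2
    have e2 : c \ (c ∩ b) = c \ b := by ext x; simp
    rw [e1, add_zero, e2, Finset.sum_congr rfl (g := fun _ => 6)]
    · rw [Finset.sum_const, smul_eq_mul, mul_comm]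
    · intro x hx
      rw [mem_sdiff] at hx
      rw [Finset.filter_filter, ← s22_pt_disj hα hB hb hx.2]
      congr 1
      ext d; simp only [mem_filter]; tauto
  rw [h2] at hsum
  have h16 := s22_disj hα hB hb
  split_ifs with hd
  · have hcm : c ∈ (blk B).filter (fun d => Disjoint d b) := mem_filter.2 ⟨mem_blk.2 hc, hd.symm⟩
    rw [← Finset.add_sum_erase _ _ hcm, Finset.inter_self, hB.1 c hc] at hsum
    have h3 := sum_two (S := ((blk B).filter (fun d => Disjoint d b)).erase c) (X := c) (by
      intro d hd
      rw [mem_erase, mem_filter, mem_blk] at hd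
      exact s22_inter hα hB hd.2.1 hc hd.1)
    rw [Finset.card_erase_of_mem hcm, h16] at h3
    have h4 : (c \ b).card = 6 := by
      rw [Finset.sdiff_eq_self_of_disjoint hd.symm, hB.1 c hc]
    have h5 : (blk B).filter (fun d => Disjoint d b ∧ Disjoint d c) ⊆
        (((blk B).filter (fun d => Disjoint d b)).erase c).filter (fun d => (d ∩ c).card = 0) := by
      intro d hd'
      rw [mem_filter] at hd'
      rw [mem_filter, mem_erase, mem_filter, Finset.card_eq_zero, ← Finset.disjoint_iff_inter_eq_empty]
      refine ⟨⟨?_, hd'.1, hd'.2.1⟩, hd'.2.2⟩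
      rintro rfl
      have := Finset.disjoint_self_iff_empty d |>.1 hd'.2.2
      have h6 := hB.1 d hc
      rw [this] at h6; simp at h6
    have := Finset.card_le_card h5
    omega
  · have h3 := sum_two (S := (blk B).filter (fun d => Disjoint d b)) (X := c) (by
      intro d hd'
      rw [mem_filter, mem_blk] at hd'
      exact s22_inter hα hB hd'.1 hc (by rintro rfl; exact hd hd'.2.symm))
    have h4 : (c \ b).card = 4 := by
      have h5 := Finset.card_sdiff_add_card_inter c b
      rw [hB.1 c hc] at h5
      rcases s22_inter hα hB hc hb hbc.symm with h6 | h6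
      · exfalso; apply hd
        rw [Finset.card_eq_zero, ← Finset.disjoint_iff_inter_eq_empty] at h6
        exact h6.symm
      · omega
    rw [h16] at h3
    have h5 : (blk B).filter (fun d => Disjoint d b ∧ Disjoint d c) =
        ((blk B).filter (fun d => Disjoint d b)).filter (fun d => (d ∩ c).card = 0) := by
      rw [Finset.filter_filter]
      apply Finset.filter_congr
      intro d _
      rw [Finset.card_eq_zero, ← Finset.disjoint_iff_inter_eq_empty]
    rw [h5]; omega

end

/-- a strongly regular graph in terms of `ncard` -/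
theorem srg_of {V : Type*} [Fintype V] {G : SimpleGraph V} [DecidableRel G.Adj] {n k ℓ μ : ℕ}
    (hn : Nat.card V = n) (hk : ∀ v, {w | G.Adj v w}.ncard = k)
    (hl : ∀ v w, G.Adj v w → {u | G.Adj v u ∧ G.Adj w u}.ncard = ℓ)
    (hm : ∀ v w, v ≠ w → ¬ G.Adj v w → {u | G.Adj v u ∧ G.Adj w u}.ncard = μ) : G.IsSRGWith n k ℓ μ where
  card := by rw [← hn, Nat.card_eq_fintype_card]
  regular := by
    intro v
    rw [← hk v, ← SimpleGraph.card_neighborSet_eq_degree, ← Nat.card_eq_fintype_card]
    rfl
  of_adj := by
    intro v w h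
    rw [← hl v w h, ← Nat.card_eq_fintype_card]
    rfl
  of_not_adj := by
    intro v w hvw h
    rw [← hm v w hvw h]
    show Fintype.card (G.commonNeighbors v w) = _
    rw [← Nat.card_eq_fintype_card]
    rfl

theorem ncard_blk {α : Type*} [Fintype α] [DecidableEq α] {B : Set (Finset α)} (P : Finset α → Prop) [DecidablePred P] :
    {u : B | P (u : Finset α)}.ncard = ((blk B).filter P).card := by
  rw [← Set.ncard_coe_finset, ← Set.ncard_image_of_injective {u : B | P (u : Finset α)} Subtype.val_injective]
  congr 1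
  ext c
  simp only [Set.mem_image, coe_filter, Set.mem_ofPred_eq, mem_blk]
  constructor
  · rintro ⟨u, hu, rfl⟩; exact ⟨u.2, hu⟩
  · rintro ⟨h1, h2⟩; exact ⟨⟨c, h1⟩, h2, rfl⟩

end Cfsg.Agent.Lib.GolU
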