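import Cfsg.Agent.Lib.GolU.Srg

/-!
Strong regularity of the block graph and the point-block graph of an S(3, 6, 22).
-/

set_option autoImplicit false

namespace Cfsg.Agent.Lib.GolU

open Cfsg Finset
open Cfsg.Agent.Lib.Steiner

section adj
variable {α : Type*} {B : Set (Finset α)}

theorem adj_nn : ¬ (pointBlockGraph B).Adj none none := by simp [pointBlockGraph]
theorem adj_np (a : α) : (pointBlockGraph B).Adj none (some (Sum.inl a)) := by
  simp [pointBlockGraph, pointBlockRel]
theorem adj_pn (a : α) : (pointBlockGraph B).Adj (some (Sum.inl a)) none := (adj_np a).symm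
theorem adj_nb (b : B) : ¬ (pointBlockGraph B).Adj none (some (Sum.inr b)) := by
  simp [pointBlockGraph, pointBlockRel]
theorem adj_bn (b : B) : ¬ (pointBlockGraph B).Adj (some (Sum.inr b)) none := fun h => adj_nb b h.symm
theorem adj_pp (a a' : α) : ¬ (pointBlockGraph B).Adj (some (Sum.inl a)) (some (Sum.inl a')) := by
  simp [pointBlockGraph, pointBlockRel]
theorem adj_pb (a : α) (b : B) : (pointBlockGraph B).Adj (some (Sum.inl a)) (some (Sum.inr b)) ↔ a ∈ (b : Finset α) := by
  simp [pointBlockGraph, pointBlockRel]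
theorem adj_bp (a : α) (b : B) : (pointBlockGraph B).Adj (some (Sum.inr b)) (some (Sum.inl a)) ↔ a ∈ (b : Finset α) := by
  rw [SimpleGraph.adj_comm, adj_pb]
theorem adj_bb (b c : B) : (pointBlockGraph B).Adj (some (Sum.inr b)) (some (Sum.inr c)) ↔
    b ≠ c ∧ Disjoint (b : Finset α) (c : Finset α) := by
  simp only [pointBlockGraph, pointBlockRel, SimpleGraph.fromRel_adj, ne_eq, Option.some.injEq, Sum.inr.injEq]
  rw [disjoint_comm (a := (c : Finset α)), or_self]
theorem adj_block (b c : B) : (blockGraph B).Adj b c ↔ b ≠ c ∧ Disjoint (b : Finset α) (c : Finset α) := by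
  simp only [blockGraph, SimpleGraph.fromRel_adj]
  rw [disjoint_comm (a := (c : Finset α)), or_self]

theorem ne_of_disj {k : ℕ} (hk : 0 < k) (hB : ∀ b ∈ B, b.card = k) {b c : B} (h : Disjoint (b : Finset α) (c : Finset α)) :
    b ≠ c := by
  rintro rfl
  have h1 := hB b b.2
  have h2 : (b : Finset α) = ∅ := by simpa using h
  rw [h2] at h1; simp at h1; omega

end adj

section
variable {α : Type*} [Fintype α] [DecidableEq α] {B : Set (Finset α)}

theorem adj_bb' (hB : IsSteinerSystem 3 6 B) (b c : B) :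
    (pointBlockGraph B).Adj (some (Sum.inr b)) (some (Sum.inr c)) ↔ Disjoint (c : Finset α) (b : Finset α) := by
  rw [adj_bb]
  exact ⟨fun h => h.2.symm, fun h => ⟨ne_of_disj (by norm_num) hB.1 h.symm, h.symm⟩⟩

theorem adj_block' (hB : IsSteinerSystem 3 6 B) (b c : B) :
    (blockGraph B).Adj b c ↔ Disjoint (c : Finset α) (b : Finset α) := by
  rw [adj_block]
  exact ⟨fun h => h.2.symm, fun h => ⟨ne_of_disj (by norm_num) hB.1 h.symm, h.symm⟩⟩

theorem srg77 [Fintype B] [DecidableRel (blockGraph B).Adj] (hα : Fintype.card α = 22) (hB : IsSteinerSystem 3 6 B) :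
    (blockGraph B).IsSRGWith 77 16 0 4 := by
  apply srg_of
  · rw [← s22_all hα hB, ← Nat.card_eq_finsetCard]
    exact Nat.card_congr (Equiv.subtypeEquivRight (fun x => mem_blk.symm))
  · intro b
    rw [← s22_disj hα hB b.2, ← ncard_blk]
    congr 1
    ext c
    exact adj_block' hB b c
  · intro b c h
    have hne := h.ne
    rw [adj_block' hB] at h
    have := s22_two hα hB b.2 c.2 (fun e => hne (Subtype.ext e))
    rw [if_pos h.symm, ← ncard_blk] at this
    rw [← this]
    congr 1
    ext u
    simp only [Set.mem_ofPred_eq, adj_block' hB]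
  · intro b c hne h
    rw [adj_block' hB] at h
    have := s22_two hα hB b.2 c.2 (fun e => hne (Subtype.ext e))
    rw [if_neg (fun h' => h h'.symm), ← ncard_blk] at this
    rw [← this]
    congr 1
    ext u
    simp only [Set.mem_ofPred_eq, adj_block' hB]

theorem ncard_split (S : Set (Option (α ⊕ B))) (P : Prop) (A : Set α) (C : Set B) {i j k : ℕ} (h0 : (none ∈ S ↔ P))
    (hi : (P ∧ i = 1) ∨ (¬ P ∧ i = 0))
    (hA : ∀ a, some (Sum.inl a) ∈ S ↔ a ∈ A) (hC : ∀ b, some (Sum.inr b) ∈ S ↔ b ∈ C)
    (hj : A.ncard = j) (hk : C.ncard = k) : S.ncard = i + j + k := by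
  classical
  have hfin : Finite B := Set.toFinite B
  have e1 : ((fun a : α => (some (Sum.inl a) : Option (α ⊕ B))) '' A).ncard = j := by
    rw [Set.ncard_image_of_injective _ (fun a b h => by simpa using h), hj]
  have e2 : ((fun b : B => (some (Sum.inr b) : Option (α ⊕ B))) '' C).ncard = k := by
    rw [Set.ncard_image_of_injective _ (fun a b h => by simpa using h), hk]
  have hS : S = (S ∩ {none}) ∪ (((fun a : α => (some (Sum.inl a) : Option (α ⊕ B))) '' A) ∪
      ((fun b : B => (some (Sum.inr b) : Option (α ⊕ B))) '' C)) := by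
    ext x
    rcases x with _ | a | b
    · simp
    · simp [hA]
    · simp [hC]
  rw [hS, Set.ncard_union_eq, Set.ncard_union_eq, e1, e2]
  · have : (S ∩ {none}).ncard = i := by
      rcases hi with ⟨hP, rfl⟩ | ⟨hP, rfl⟩
      · have : S ∩ {none} = {none} := by
          ext x; simp only [Set.mem_inter_iff, Set.mem_singleton_iff, and_iff_right_iff_imp]
          rintro rfl; exact h0.2 hP
        rw [this, Set.ncard_singleton]
      · have : S ∩ {none} = ∅ := by
          ext x; simp only [Set.mem_inter_iff, Set.mem_singleton_iff, Set.mem_empty_iff_false, iff_false]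
          rintro ⟨h1, rfl⟩; exact hP (h0.1 h1)
        rw [this, Set.ncard_empty]
    omega
  · rw [Set.disjoint_left]
    rintro _ ⟨a, _, rfl⟩ ⟨b, _, h⟩
    simp at h
  · rw [Set.disjoint_left]
    rintro x ⟨_, hx⟩ hx'
    rw [Set.mem_singleton_iff] at hx
    subst hx
    rcases hx' with ⟨a, _, h⟩ | ⟨a, _, h⟩ <;> simp at h

theorem ncard_mem (b : Finset α) : {a | a ∈ b}.ncard = b.card := by
  rw [← Set.ncard_coe_finset]; rfl

theorem srg100 [Fintype B] [DecidableRel (pointBlockGraph B).Adj] (hα : Fintype.card α = 22) (hB : IsSteinerSystem 3 6 B) :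
    (pointBlockGraph B).IsSRGWith 100 22 0 6 := by
  have hcomm : ∀ v w : Option (α ⊕ B), {u | (pointBlockGraph B).Adj v u ∧ (pointBlockGraph B).Adj w u} =
      {u | (pointBlockGraph B).Adj w u ∧ (pointBlockGraph B).Adj v u} := by
    intro v w; ext u; exact and_comm
  have hcardB : Nat.card B = 77 := by
    rw [← s22_all hα hB, ← Nat.card_eq_finsetCard]
    exact Nat.card_congr (Equiv.subtypeEquivRight (fun x => mem_blk.symm))
  have cpb : ∀ (a : α) (b : B), {u | (pointBlockGraph B).Adj (some (Sum.inl a)) u ∧ (pointBlockGraph B).Adj (some (Sum.inr b)) u}.ncard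
      = if a ∈ (b : Finset α) then 0 else 6 := by
    intro a b
    have hC : {c : B | a ∈ (c : Finset α) ∧ Disjoint (c : Finset α) b}.ncard = if a ∈ (b : Finset α) then 0 else 6 := by
      split_ifs with h
      · rw [Set.ncard_eq_zero (Set.toFinite _)]
        ext c
        simp only [Set.mem_ofPred_eq, Set.mem_empty_iff_false, iff_false]
        rintro ⟨h1, h2⟩; exact Finset.disjoint_left.1 h2 h1 h
      · rw [ncard_blk (fun c => a ∈ c ∧ Disjoint c b)]
        exact s22_pt_disj hα hB b.2 h
    rw [ncard_split _ False ∅ {c : B | a ∈ (c : Finset α) ∧ Disjoint (c : Finset α) b} (i := 0) (j := 0) ?_ ?_ ?_ ?_ (by simp) hC]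
    · omega
    · simp only [Set.mem_ofPred_eq, iff_false, not_and]; intro _; exact adj_bn b
    · exact Or.inr ⟨id, rfl⟩
    · intro x; simp only [Set.mem_ofPred_eq, Set.mem_empty_iff_false, iff_false, not_and]; intro h; exact absurd h (adj_pp _ _)
    · intro c; simp only [Set.mem_ofPred_eq, adj_pb, adj_bb' hB]
  have cnp : ∀ (a : α), {u | (pointBlockGraph B).Adj none u ∧ (pointBlockGraph B).Adj (some (Sum.inl a)) u}.ncard = 0 := by
    intro a
    rw [ncard_split _ False ∅ ∅ (i := 0) (j := 0) (k := 0) ?_ ?_ ?_ ?_ (by simp) (by simp)]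
    · simp only [Set.mem_ofPred_eq, iff_false, not_and]; intro h; exact absurd h adj_nn
    · exact Or.inr ⟨id, rfl⟩
    · intro x; simp only [Set.mem_ofPred_eq, Set.mem_empty_iff_false, iff_false, not_and]; intro _; exact adj_pp _ _
    · intro c; simp only [Set.mem_ofPred_eq, Set.mem_empty_iff_false, iff_false, not_and]; intro h; exact absurd h (adj_nb c)
  have cnb : ∀ (b : B), {u | (pointBlockGraph B).Adj none u ∧ (pointBlockGraph B).Adj (some (Sum.inr b)) u}.ncard = 6 := by
    intro b
    rw [ncard_split _ False {a | a ∈ (b : Finset α)} ∅ (i := 0) (j := 6) (k := 0) ?_ ?_ ?_ ?_ (by rw [ncard_mem, hB.1 b b.2]) (by simp)]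
    · simp only [Set.mem_ofPred_eq, iff_false, not_and]; intro h; exact absurd h adj_nn
    · exact Or.inr ⟨id, rfl⟩
    · intro x; simp only [Set.mem_ofPred_eq, adj_bp]; exact ⟨fun h => h.2, fun h => ⟨adj_np x, h⟩⟩
    · intro c; simp only [Set.mem_ofPred_eq, Set.mem_empty_iff_false, iff_false, not_and]; intro h; exact absurd h (adj_nb c)
  have cpp : ∀ (a a' : α), a ≠ a' → {u | (pointBlockGraph B).Adj (some (Sum.inl a)) u ∧ (pointBlockGraph B).Adj (some (Sum.inl a')) u}.ncard = 6 := by
    intro a a' h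
    rw [ncard_split _ True ∅ {c : B | a ∈ (c : Finset α) ∧ a' ∈ (c : Finset α)} (i := 1) (j := 0) (k := 5) ?_ ?_ ?_ ?_ (by simp) ?_]
    · simp only [Set.mem_ofPred_eq, iff_true]; exact ⟨adj_pn a, adj_pn a'⟩
    · exact Or.inl ⟨trivial, rfl⟩
    · intro x; simp only [Set.mem_ofPred_eq, Set.mem_empty_iff_false, iff_false, not_and]; intro h; exact absurd h (adj_pp _ _)
    · intro c; simp only [Set.mem_ofPred_eq, adj_pb]
    · rw [ncard_blk (fun c => a ∈ c ∧ a' ∈ c)]
      exact s22_pair hα hB h
  have cbb : ∀ (b c : B), b ≠ c → {u | (pointBlockGraph B).Adj (some (Sum.inr b)) u ∧ (pointBlockGraph B).Adj (some (Sum.inr c)) u}.ncard =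
      if Disjoint (b : Finset α) (c : Finset α) then 0 else 6 := by
    intro b c h
    have hne : (b : Finset α) ≠ c := fun e => h (Subtype.ext e)
    have h1 := s22_two hα hB b.2 c.2 hne
    have h2 := s22_inter hα hB b.2 c.2 hne
    rw [ncard_split _ False {a | a ∈ (b : Finset α) ∩ c} {d : B | Disjoint (d : Finset α) b ∧ Disjoint (d : Finset α) c} (i := 0)
      ?_ ?_ ?_ ?_ (ncard_mem _) (ncard_blk (fun d => Disjoint d (b : Finset α) ∧ Disjoint d (c : Finset α)))]
    · rw [h1]
      split_ifs with hd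
      · rw [Finset.disjoint_iff_inter_eq_empty.1 hd]; simp
      · rcases h2 with h2 | h2
        · exfalso; apply hd
          rwa [Finset.card_eq_zero, ← Finset.disjoint_iff_inter_eq_empty] at h2
        · omega
    · simp only [Set.mem_ofPred_eq, iff_false, not_and]; intro h; exact absurd h (adj_bn b)
    · exact Or.inr ⟨id, rfl⟩
    · intro x; simp only [Set.mem_ofPred_eq, adj_bp, mem_inter]
    · intro d; simp only [Set.mem_ofPred_eq, adj_bb' hB]
  apply srg_of
  · rw [Nat.card_eq_fintype_card, Fintype.card_option, Fintype.card_sum, hα, ← Nat.card_eq_fintype_card, hcardB]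
  · intro v
    rcases v with _ | a | b
    · rw [ncard_split _ False Set.univ ∅ (i := 0) (j := 22) (k := 0) ?_ ?_ ?_ ?_ (by rw [Set.ncard_univ, Nat.card_eq_fintype_card, hα]) (by simp)]
      · simp only [Set.mem_ofPred_eq, iff_false]; exact adj_nn
      · exact Or.inr ⟨id, rfl⟩
      · intro x; simp only [Set.mem_ofPred_eq, Set.mem_univ, iff_true]; exact adj_np x
      · intro c; simp only [Set.mem_ofPred_eq, Set.mem_empty_iff_false, iff_false]; exact adj_nb c
    · rw [ncard_split _ True ∅ {c : B | a ∈ (c : Finset α)} (i := 1) (j := 0) (k := 21) ?_ ?_ ?_ ?_ (by simp) ?_]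
      · simp only [Set.mem_ofPred_eq, iff_true]; exact adj_pn a
      · exact Or.inl ⟨trivial, rfl⟩
      · intro x; simp only [Set.mem_ofPred_eq, Set.mem_empty_iff_false, iff_false]; exact adj_pp _ _
      · intro c; simp only [Set.mem_ofPred_eq, adj_pb]
      · rw [ncard_blk (fun c => a ∈ c)]; exact s22_pt hα hB a
    · rw [ncard_split _ False {a | a ∈ (b : Finset α)} {c : B | Disjoint (c : Finset α) b} (i := 0) (j := 6) (k := 16) ?_ ?_ ?_ ?_
        (by rw [ncard_mem, hB.1 b b.2]) ?_]
      · simp only [Set.mem_ofPred_eq, iff_false]; exact adj_bn b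
      · exact Or.inr ⟨id, rfl⟩
      · intro x; simp only [Set.mem_ofPred_eq, adj_bp]
      · intro c; simp only [Set.mem_ofPred_eq, adj_bb' hB]
      · rw [ncard_blk (fun c => Disjoint c (b : Finset α))]; exact s22_disj hα hB b.2
  · intro v w h
    rcases v with _ | a | b <;> rcases w with _ | a' | c
    · exact absurd h adj_nn
    · exact cnp a'
    · exact absurd h (adj_nb c)
    · rw [hcomm]; exact cnp a
    · exact absurd h (adj_pp _ _)
    · rw [adj_pb] at h; rw [cpb, if_pos h]
    · exact absurd h (adj_bn b)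
    · rw [adj_bp] at h; rw [hcomm, cpb, if_pos h]
    · rw [adj_bb] at h; rw [cbb b c h.1, if_pos h.2]
  · intro v w hne h
    rcases v with _ | a | b <;> rcases w with _ | a' | c
    · exact absurd rfl hne
    · exact absurd (adj_np a') h
    · exact cnb c
    · exact absurd (adj_pn a) h
    · exact cpp a a' (fun e => hne (by rw [e]))
    · rw [adj_pb] at h; rw [cpb, if_neg h]
    · rw [hcomm]; exact cnb b
    · rw [adj_bp] at h; rw [hcomm, cpb, if_neg h]
    · have hbc : b ≠ c := fun e => hne (by rw [e])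
      rw [adj_bb] at h; rw [cbb b c hbc, if_neg (fun h' => h ⟨hbc, h'⟩)]

end

end Cfsg.Agent.Lib.GolU
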