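import Cfsg.Agent.Lib.GolU.Srg2

/-!
A strongly regular graph with parameters (100, 22, 0, 6) is the point-block graph of an S(3, 6, 22).
-/

set_option autoImplicit false

namespace Cfsg.Agent.Lib.GolU

open Cfsg Finset
open Cfsg.Agent.Lib.Steiner

/-- the combinatorial content of the parameters (100, 22, 0, 6) -/
structure HSg {V : Type*} [Fintype V] [DecidableEq V] (nb : V → Finset V) : Prop where
  card : Fintype.card V = 100
  symm : ∀ v w, w ∈ nb v ↔ v ∈ nb w
  irr : ∀ v, v ∉ nb v
  deg : ∀ v, (nb v).card = 22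
  adj : ∀ v w, w ∈ nb v → (nb v ∩ nb w).card = 0
  nadj : ∀ v w, v ≠ w → w ∉ nb v → (nb v ∩ nb w).card = 6

section
variable {V : Type*} [Fintype V] [DecidableEq V] {nb : V → Finset V}

theorem HSg.no_tri (h : HSg nb) {v w u : V} (h1 : w ∈ nb v) (h2 : u ∈ nb v) (h3 : u ∈ nb w) : False := by
  have := h.adj v w h1
  rw [Finset.card_eq_zero] at this
  have h4 : u ∈ nb v ∩ nb w := mem_inter.2 ⟨h2, h3⟩
  rw [this] at h4; exact absurd h4 (Finset.notMem_empty _)

/-- the non-neighbours -/
def far (nb : V → Finset V) (v : V) : Finset V := Finset.univ.filter (fun x => x ≠ v ∧ x ∉ nb v)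

theorem mem_far {v x : V} : x ∈ far nb v ↔ x ≠ v ∧ x ∉ nb v := by simp [far]

theorem HSg.card_far (h : HSg nb) (v : V) : (far nb v).card = 77 := by
  have : far nb v = (insert v (nb v))ᶜ := by
    ext x; simp only [mem_far, mem_compl, mem_insert]; tauto
  rw [this, Finset.card_compl, h.card, Finset.card_insert_of_notMem (h.irr v), h.deg]

theorem HSg.block_card (h : HSg nb) {v x : V} (hx : x ∈ far nb v) : (nb v ∩ nb x).card = 6 := by
  rw [mem_far] at hx
  exact h.nadj v x hx.1.symm hx.2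

theorem HSg.nb_far (h : HSg nb) {v a : V} (ha : a ∈ nb v) : ((far nb v).filter (fun y => a ∈ nb y)).card = 21 := by
  have : (far nb v).filter (fun y => a ∈ nb y) = (nb a).erase v := by
    ext y
    rw [mem_filter, mem_far, mem_erase]
    constructor
    · rintro ⟨⟨h1, h2⟩, h3⟩; exact ⟨h1, (h.symm _ _).1 h3⟩
    · rintro ⟨h1, h2⟩
      refine ⟨⟨h1, fun h3 => h.no_tri ha h3 h2⟩, (h.symm _ _).1 h2⟩
  rw [this, Finset.card_erase_of_mem ((h.symm _ _).1 ha), h.deg]

theorem HSg.nb_far2 (h : HSg nb) {v a a' : V} (ha : a ∈ nb v) (ha' : a' ∈ nb v) (hne : a ≠ a') :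
    ((far nb v).filter (fun y => a ∈ nb y ∧ a' ∈ nb y)).card = 5 := by
  have : (far nb v).filter (fun y => a ∈ nb y ∧ a' ∈ nb y) = (nb a ∩ nb a').erase v := by
    ext y
    rw [mem_filter, mem_far, mem_erase, mem_inter]
    constructor
    · rintro ⟨⟨h1, h2⟩, h3, h4⟩; exact ⟨h1, (h.symm _ _).1 h3, (h.symm _ _).1 h4⟩
    · rintro ⟨h1, h2, h3⟩
      refine ⟨⟨h1, fun h4 => h.no_tri ha h4 h2⟩, (h.symm _ _).1 h2, (h.symm _ _).1 h3⟩
  have hna : a' ∉ nb a := fun h1 => h.no_tri ha ha' h1
  rw [this, Finset.card_erase_of_mem (mem_inter.2 ⟨(h.symm _ _).1 ha, (h.symm _ _).1 ha'⟩), h.nadj a a' hne hna]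

theorem HSg.inter2 (h : HSg nb) {v x y : V} (hx : x ∈ far nb v) (hy : y ∈ far nb v) (hxy : x ≠ y) :
    (nb v ∩ nb x ∩ (nb v ∩ nb y)).card = if y ∈ nb x then 0 else 2 := by
  classical
  set b := nb v ∩ nb x with hb
  have hb6 : b.card = 6 := h.block_card hx
  set n : V → ℤ := fun y => ((b ∩ nb y).card : ℤ) with hn
  have hinter : ∀ y, b ∩ (nb v ∩ nb y) = b ∩ nb y := by
    intro y; ext z; simp only [hb, mem_inter]; tauto
  rw [hinter]
  -- first moment
  have h1 : ∑ y ∈ far nb v, (b ∩ nb y).card = 126 := by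
    have e := Finset.sum_card_bipartiteAbove_eq_sum_card_bipartiteBelow (fun (y a : V) => a ∈ nb y)
      (s := far nb v) (t := b)
    have e1 : ∀ y ∈ far nb v, (Finset.bipartiteAbove (fun (y a : V) => a ∈ nb y) b y).card = (b ∩ nb y).card := by
      intro y _; congr 1
    have e2 : ∀ a ∈ b, (Finset.bipartiteBelow (fun (y a : V) => a ∈ nb y) (far nb v) a).card = 21 := by
      intro a ha; exact h.nb_far (mem_inter.1 ha).1
    rw [Finset.sum_congr rfl e1, Finset.sum_congr rfl e2, Finset.sum_const, hb6] at e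
    rw [e]; rfl
  -- second moment: ordered pairs
  have h2 : ∑ y ∈ far nb v, (b ∩ nb y).offDiag.card = 150 := by
    have e := Finset.sum_card_bipartiteAbove_eq_sum_card_bipartiteBelow (fun (y : V) (p : V × V) => p.1 ∈ nb y ∧ p.2 ∈ nb y)
      (s := far nb v) (t := b.offDiag)
    have e1 : ∀ y ∈ far nb v, (Finset.bipartiteAbove (fun (y : V) (p : V × V) => p.1 ∈ nb y ∧ p.2 ∈ nb y) b.offDiag y).card =
        (b ∩ nb y).offDiag.card := by
      intro y _; congr 1; ext p; simp only [Finset.bipartiteAbove, mem_filter, mem_offDiag, mem_inter]; tauto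
    have e2 : ∀ p ∈ b.offDiag, (Finset.bipartiteBelow (fun (y : V) (p : V × V) => p.1 ∈ nb y ∧ p.2 ∈ nb y) (far nb v) p).card = 5 := by
      intro p hp
      rw [mem_offDiag] at hp
      exact h.nb_far2 (mem_inter.1 hp.1).1 (mem_inter.1 hp.2.1).1 hp.2.2
    rw [Finset.sum_congr rfl e1, Finset.sum_congr rfl e2, Finset.sum_const, Finset.offDiag_card, hb6] at e
    rw [e]; rfl
  -- the far vertices not adjacent to x
  set X := (far nb v).filter (fun y => y ≠ x ∧ y ∉ nb x) with hX
  have hbx : b ∩ nb x = b := Finset.inter_eq_left.2 Finset.inter_subset_right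
  have hzero : ∀ y ∈ far nb v, y ∉ X → y ≠ x → (b ∩ nb y).card = 0 := by
    intro y hy hyX hyx
    have hyn : y ∈ nb x := by
      by_contra h3; exact hyX (mem_filter.2 ⟨hy, hyx, h3⟩)
    rw [Finset.card_eq_zero, Finset.eq_empty_iff_forall_notMem]
    intro z hz
    rw [mem_inter, hb, mem_inter] at hz
    exact h.no_tri hyn hz.1.2 hz.2
  have hxX : x ∉ X := by rw [hX, mem_filter]; tauto
  have hsplit : ∀ F : V → ℕ, (∀ y ∈ far nb v, (b ∩ nb y).card = 0 → F y = 0) →
      ∑ y ∈ far nb v, F y = F x + ∑ y ∈ X, F y := by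
    intro F hF
    have e1 : insert x X ⊆ far nb v := Finset.insert_subset hx (Finset.filter_subset _ _)
    rw [← Finset.sum_subset e1, Finset.sum_insert hxX]
    intro y hy hyX
    rw [mem_insert] at hyX
    push Not at hyX
    exact hF y hy (hzero y hy hyX.2 hyX.1)
  rw [hsplit (fun y => (b ∩ nb y).card) (fun y _ h => h), hbx, hb6] at h1
  rw [hsplit (fun y => (b ∩ nb y).offDiag.card) (fun y _ h => by
    rw [Finset.card_eq_zero] at h; rw [h]; simp), hbx, Finset.offDiag_card, hb6] at h2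
  have hXc : X.card = 60 := by
    have e1 := Finset.card_filter_add_card_filter_not (s := (far nb v).erase x) (fun y => y ∉ nb x)
    have e2 : ((far nb v).erase x).filter (fun y => y ∉ nb x) = X := by
      ext y; simp only [hX, mem_filter, mem_erase]; tauto
    have e3 : ((far nb v).erase x).filter (fun y => ¬ y ∉ nb x) = nb x \ (nb v) := by
      ext y
      simp only [mem_filter, mem_erase, mem_far, mem_sdiff, not_not]
      constructor
      · rintro ⟨⟨_, _, h1'⟩, h2'⟩; exact ⟨h2', h1'⟩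
      · rintro ⟨g1, g2⟩
        refine ⟨⟨?_, ?_, g2⟩, g1⟩
        · intro e; subst e; exact h.irr _ g1
        · intro e; subst e; exact (mem_far.1 hx).2 ((h.symm _ _).1 g1)
    have e4 : (nb x \ nb v).card = 16 := by
      have e5 := Finset.card_sdiff_add_card_inter (nb x) (nb v)
      rw [h.deg, Finset.inter_comm, ← hb, hb6] at e5; omega
    rw [e2, e3, e4, Finset.card_erase_of_mem hx, h.card_far] at e1
    omega
  -- the variance vanishes
  have hvar : ∑ y ∈ X, (n y - 2) ^ 2 = 0 := by
    have e1 : ∀ y ∈ X, (n y - 2) ^ 2 = ((b ∩ nb y).offDiag.card : ℤ) - 3 * ((b ∩ nb y).card : ℤ) + 4 := by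
      intro y _
      have e2 : ((b ∩ nb y).offDiag.card : ℤ) = (n y) * (n y) - n y := by
        rw [Finset.offDiag_card, Nat.cast_sub (Nat.le_mul_self _), Nat.cast_mul]
      rw [e2]; simp only [hn]; ring
    rw [Finset.sum_congr rfl e1, Finset.sum_add_distrib, Finset.sum_sub_distrib, ← Finset.mul_sum, Finset.sum_const, hXc]
    have e3 : ∑ y ∈ X, ((b ∩ nb y).card : ℤ) = 120 := by
      have : ∑ y ∈ X, (b ∩ nb y).card = 120 := by omega
      rw [← Nat.cast_sum, this]; rfl
    have e4 : ∑ y ∈ X, ((b ∩ nb y).offDiag.card : ℤ) = 120 := by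
      have : ∑ y ∈ X, (b ∩ nb y).offDiag.card = 120 := by omega
      rw [← Nat.cast_sum, this]; rfl
    rw [e3, e4]; norm_num
  split_ifs with hadj
  · apply hzero y hy
    · rw [hX, mem_filter]; tauto
    · exact hxy.symm
  · have h3 := (Finset.sum_eq_zero_iff_of_nonneg (fun y _ => sq_nonneg (n y - 2))).1 hvar y
      (mem_filter.2 ⟨hy, hxy.symm, hadj⟩)
    have h4 : n y = 2 := by
      have := pow_eq_zero_iff (n := 2) (by norm_num) |>.1 h3
      linarith
    have h5 : ((b ∩ nb y).card : ℤ) = 2 := h4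
    exact_mod_cast h5

/-- the block of a far vertex -/
def hblk (nb : V → Finset V) (v x : V) : Finset {a // a ∈ nb v} := (nb x).subtype (fun a => a ∈ nb v)

theorem card_hblk (v x : V) : (hblk nb v x).card = (nb v ∩ nb x).card := by
  rw [hblk, ← Finset.card_map (Function.Embedding.subtype _), Finset.subtype_map]
  congr 1
  ext a; simp only [mem_filter, mem_inter]; tauto

theorem card_hblk_inter (v x y : V) : (hblk nb v x ∩ hblk nb v y).card = (nb v ∩ nb x ∩ (nb v ∩ nb y)).card := by
  have : hblk nb v x ∩ hblk nb v y = (nb x ∩ nb y).subtype (fun a => a ∈ nb v) := by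
    ext a; simp [hblk]
  rw [this, ← Finset.card_map (Function.Embedding.subtype _), Finset.subtype_map]
  congr 1
  ext a; simp only [mem_filter, mem_inter]; tauto

theorem mem_hblk {v x : V} {a : {a // a ∈ nb v}} : a ∈ hblk nb v x ↔ (a : V) ∈ nb x := by simp [hblk]

/-- the blocks -/
def hB (nb : V → Finset V) (v : V) : Set (Finset {a // a ∈ nb v}) := {b | ∃ x ∈ far nb v, b = hblk nb v x}

theorem HSg.hblk_inj (h : HSg nb) {v x y : V} (hx : x ∈ far nb v) (hy : y ∈ far nb v)
    (he : hblk nb v x = hblk nb v y) : x = y := by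
  by_contra hne
  have h1 := h.inter2 hx hy hne
  rw [← card_hblk_inter, he, Finset.inter_self, card_hblk, h.block_card hy] at h1
  split_ifs at h1 <;> omega

theorem HSg.steiner (h : HSg nb) (v : V) : IsSteinerSystem 3 6 (hB nb v) := by
  classical
  refine ⟨?_, ?_⟩
  · rintro b ⟨x, hx, rfl⟩
    rw [card_hblk, h.block_card hx]
  · -- uniqueness of the block and counting
    have huniq : ∀ s : Finset {a // a ∈ nb v}, s.card = 3 → ∀ x ∈ far nb v, ∀ y ∈ far nb v, s ⊆ hblk nb v x → s ⊆ hblk nb v y →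
        x = y := by
      intro s hs x hx y hy h1 h2
      by_contra hne
      have h3 := h.inter2 hx hy hne
      rw [← card_hblk_inter] at h3
      have h4 := Finset.card_le_card (Finset.subset_inter h1 h2)
      rw [hs, h3] at h4
      split_ifs at h4 <;> omega
    have hcount : ((far nb v).biUnion (fun x => (hblk nb v x).powersetCard 3)).card = 1540 := by
      rw [Finset.card_biUnion]
      · rw [Finset.sum_congr rfl (g := fun _ => 20)]
        · rw [Finset.sum_const, h.card_far]; rfl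
        · intro x hx
          rw [Finset.card_powersetCard, card_hblk, h.block_card hx]; rfl
      · intro x hx y hy hne
        show Disjoint _ _
        rw [Finset.disjoint_left]
        intro s hs hs'
        rw [mem_powersetCard] at hs hs'
        exact hne (huniq s hs.2 x hx y hy hs.1 hs'.1)
    have hall : (far nb v).biUnion (fun x => (hblk nb v x).powersetCard 3) = Finset.powersetCard 3 Finset.univ := by
      apply Finset.eq_of_subset_of_card_le
      · intro s hs
        rw [mem_biUnion] at hs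
        obtain ⟨x, _, hs⟩ := hs
        rw [mem_powersetCard] at hs ⊢
        exact ⟨Finset.subset_univ _, hs.2⟩
      · rw [hcount, Finset.card_powersetCard, Finset.card_univ, Fintype.card_coe, h.deg]
        decide
    intro s hs
    have hmem : s ∈ (far nb v).biUnion (fun x => (hblk nb v x).powersetCard 3) := by
      rw [hall, mem_powersetCard]; exact ⟨Finset.subset_univ _, hs⟩
    rw [mem_biUnion] at hmem
    obtain ⟨x, hx, hsx⟩ := hmem
    rw [mem_powersetCard] at hsx
    refine ⟨hblk nb v x, ⟨⟨x, hx, rfl⟩, hsx.1⟩, ?_⟩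
    rintro _ ⟨⟨y, hy, rfl⟩, hsy⟩
    rw [huniq s hs x hx y hy hsx.1 hsy]

end

/-- the neighbourhood finset of a graph -/
noncomputable def nbf {V : Type*} [Fintype V] (G : SimpleGraph V) (v : V) : Finset V := by
  classical
  exact Finset.univ.filter (fun w => G.Adj v w)

theorem mem_nbf {V : Type*} [Fintype V] {G : SimpleGraph V} {v w : V} : w ∈ nbf G v ↔ G.Adj v w := by
  simp [nbf]

theorem hsg_of {V : Type*} [Fintype V] [DecidableEq V] {G : SimpleGraph V} [DecidableRel G.Adj]
    (hG : G.IsSRGWith 100 22 0 6) : HSg (nbf G) where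
  card := hG.card
  symm := by intro v w; rw [mem_nbf, mem_nbf, SimpleGraph.adj_comm]
  irr := by intro v; rw [mem_nbf]; exact G.irrefl
  deg := by
    intro v
    rw [← hG.regular v, ← SimpleGraph.card_neighborSet_eq_degree, ← Nat.card_eq_fintype_card, ← Nat.card_eq_finsetCard]
    exact Nat.card_congr (Equiv.subtypeEquivRight (fun x => mem_nbf))
  adj := by
    intro v w h
    rw [mem_nbf] at h
    rw [← hG.of_adj v w h, ← Nat.card_eq_fintype_card, ← Nat.card_eq_finsetCard]
    exact Nat.card_congr (Equiv.subtypeEquivRight (fun x => by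
      rw [mem_inter, mem_nbf, mem_nbf, SimpleGraph.mem_commonNeighbors]))
  nadj := by
    intro v w hne h
    rw [mem_nbf] at h
    rw [← hG.of_not_adj hne h, ← Nat.card_eq_fintype_card, ← Nat.card_eq_finsetCard]
    exact Nat.card_congr (Equiv.subtypeEquivRight (fun x => by
      rw [mem_inter, mem_nbf, mem_nbf, SimpleGraph.mem_commonNeighbors]))

/-- the graph is the point-block graph -/
theorem exists_iso {V : Type*} [Fintype V] [DecidableEq V] {G : SimpleGraph V} (h : HSg (nbf G)) (v : V) :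
    ∃ φ : pointBlockGraph (hB (nbf G) v) ≃g G, φ none = v := by
  classical
  have hx : ∀ b : hB (nbf G) v, ∃ x ∈ far (nbf G) v, (b : Finset _) = hblk (nbf G) v x := fun b => b.2
  choose X hX1 hX2 using hx
  let F : Option ({a // a ∈ nbf G v} ⊕ hB (nbf G) v) → V := fun u =>
    match u with
    | none => v
    | some (Sum.inl a) => a
    | some (Sum.inr b) => X b
  have hF0 : F none = v := rfl
  have hF1 : ∀ a, F (some (Sum.inl a)) = a.1 := fun _ => rfl
  have hF2 : ∀ b, F (some (Sum.inr b)) = X b := fun _ => rfl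
  have hinj : Function.Injective F := by
    rintro (_ | a | b) (_ | a' | b') hab
    · rfl
    · rw [hF0, hF1] at hab; have h9 := a'.2; rw [← hab] at h9; exact absurd h9 (h.irr _)
    · rw [hF0, hF2] at hab; exact absurd hab.symm (mem_far.1 (hX1 b')).1
    · rw [hF0, hF1] at hab; have h9 := a.2; rw [hab] at h9; exact absurd h9 (h.irr _)
    · rw [hF1, hF1] at hab; rw [Subtype.ext hab]
    · rw [hF1, hF2] at hab; have h9 := a.2; rw [hab] at h9; exact absurd h9 (mem_far.1 (hX1 b')).2
    · rw [hF0, hF2] at hab; exact absurd hab (mem_far.1 (hX1 b)).1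
    · rw [hF1, hF2] at hab; have h9 := a'.2; rw [← hab] at h9; exact absurd h9 (mem_far.1 (hX1 b)).2
    · rw [hF2, hF2] at hab
      have : b = b' := Subtype.ext (by rw [hX2 b, hX2 b', hab])
      rw [this]
  have hsurj : Function.Surjective F := by
    intro x
    by_cases h1 : x = v
    · exact ⟨none, h1.symm⟩
    · by_cases h2 : x ∈ nbf G v
      · exact ⟨some (Sum.inl ⟨x, h2⟩), rfl⟩
      · have hxf : x ∈ far (nbf G) v := mem_far.2 ⟨h1, h2⟩
        refine ⟨some (Sum.inr ⟨hblk (nbf G) v x, x, hxf, rfl⟩), ?_⟩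
        rw [hF2]
        exact h.hblk_inj (hX1 _) hxf (hX2 _).symm
  have hadjB : ∀ b b' : hB (nbf G) v, b ≠ b' → (G.Adj (X b) (X b') ↔
      Disjoint (b : Finset {a // a ∈ nbf G v}) (b' : Finset {a // a ∈ nbf G v})) := by
    intro b b' hne
    have hXne : X b ≠ X b' := fun e => hne (Subtype.ext (by rw [hX2 b, hX2 b', e]))
    have h1 := h.inter2 (hX1 b) (hX1 b') hXne
    rw [← card_hblk_inter, ← hX2, ← hX2] at h1
    rw [Finset.disjoint_iff_inter_eq_empty, ← Finset.card_eq_zero, h1, ← mem_nbf]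
    split_ifs with h2
    · simp [h2]
    · simp [h2]
  refine ⟨⟨Equiv.ofBijective F ⟨hinj, hsurj⟩, ?_⟩, rfl⟩
  intro u w
  show G.Adj (F u) (F w) ↔ _
  rcases u with _ | a | b <;> rcases w with _ | a' | b'
  · simp only [hF0]; exact ⟨fun h => absurd h G.irrefl, fun h => absurd h adj_nn⟩
  · rw [hF0, hF1, ← mem_nbf]; exact ⟨fun _ => adj_np a', fun _ => a'.2⟩
  · rw [hF0, hF2, ← mem_nbf]
    exact ⟨fun h => absurd h (mem_far.1 (hX1 b')).2, fun h => absurd h (adj_nb b')⟩
  · rw [hF0, hF1, SimpleGraph.adj_comm, ← mem_nbf]; exact ⟨fun _ => adj_pn a, fun _ => a.2⟩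
  · rw [hF1, hF1]
    refine ⟨fun h1 => ?_, fun h1 => absurd h1 (adj_pp _ _)⟩
    exact absurd (mem_nbf.2 h1) (fun h2 => h.no_tri a.2 a'.2 h2)
  · rw [hF1, hF2, adj_pb, hX2 b', mem_hblk, mem_nbf, SimpleGraph.adj_comm]
  · rw [hF0, hF2, SimpleGraph.adj_comm, ← mem_nbf]
    exact ⟨fun h => absurd h (mem_far.1 (hX1 b)).2, fun h => absurd h (adj_bn b)⟩
  · rw [hF1, hF2, adj_bp, hX2 b, mem_hblk, mem_nbf]
  · rw [hF2, hF2, adj_bb]
    by_cases hbb : b = b'
    · subst hbb
      exact ⟨fun h => absurd h G.irrefl, fun h => absurd rfl h.1⟩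
    · rw [hadjB b b' hbb]; exact ⟨fun h => ⟨hbb, h⟩, fun h => h.2⟩

/-- isomorphic systems have isomorphic graphs -/
theorem iso_of_system {α β : Type*} [DecidableEq α] [DecidableEq β] {B : Set (Finset α)} {B' : Set (Finset β)}
    (e : α ≃ β) (he : (fun b => b.image e) '' B = B') :
    ∃ ψ : pointBlockGraph B ≃g pointBlockGraph B', ψ none = none ∧ ∀ a, ψ (some (Sum.inl a)) = some (Sum.inl (e a)) := by
  have hmem : ∀ b : B, (b : Finset α).image e ∈ B' := by
    intro b; rw [← he]; exact ⟨b, b.2, rfl⟩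
  have hmem' : ∀ b : B', (b : Finset β).image e.symm ∈ B := by
    intro b
    have : (b : Finset β) ∈ (fun b => b.image e) '' B := by rw [he]; exact b.2

    obtain ⟨c, hc, hc2⟩ := this
    have : (b : Finset β).image e.symm = c := by
      rw [← hc2, Finset.image_image]; simp
    rw [this]; exact hc
  let eB : B ≃ B' := ⟨fun b => ⟨_, hmem b⟩, fun b => ⟨_, hmem' b⟩,
    fun b => Subtype.ext (by simp [Finset.image_image]), fun b => Subtype.ext (by simp [Finset.image_image])⟩
  have heB : ∀ b : B, ((eB b : B') : Finset β) = (b : Finset α).image e := fun b => rfl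
  refine ⟨⟨Equiv.optionCongr (Equiv.sumCongr e eB), ?_⟩, rfl, fun _ => rfl⟩
  intro u w
  rcases u with _ | a | b <;> rcases w with _ | a' | b'
  · exact ⟨fun h => absurd h adj_nn, fun h => absurd h adj_nn⟩
  · exact ⟨fun _ => adj_np _, fun _ => adj_np _⟩
  · exact ⟨fun h => absurd h (adj_nb _), fun h => absurd h (adj_nb _)⟩
  · exact ⟨fun _ => adj_pn _, fun _ => adj_pn _⟩
  · exact ⟨fun h => absurd h (adj_pp _ _), fun h => absurd h (adj_pp _ _)⟩
  · show (pointBlockGraph B').Adj (some (Sum.inl (e a))) (some (Sum.inr (eB b'))) ↔ _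
    rw [adj_pb, adj_pb, heB]; simp
  · exact ⟨fun h => absurd h (adj_bn _), fun h => absurd h (adj_bn _)⟩
  · show (pointBlockGraph B').Adj (some (Sum.inr (eB b))) (some (Sum.inl (e a'))) ↔ _
    rw [adj_bp, adj_bp, heB]; simp
  · show (pointBlockGraph B').Adj (some (Sum.inr (eB b))) (some (Sum.inr (eB b'))) ↔ _
    rw [adj_bb, adj_bb, heB, heB, Finset.disjoint_image e.injective]
    rw [Ne, EmbeddingLike.apply_eq_iff_eq]

/-- vertex-transitive uniqueness -/
theorem hs_iso {V W : Type*} [Fintype V] [Fintype W] [DecidableEq V] [DecidableEq W] {G : SimpleGraph V} {H : SimpleGraph W}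
    (hG : HSg (nbf G)) (hH : HSg (nbf H)) (v : V) (w : W) : ∃ φ : G ≃g H, φ v = w := by
  obtain ⟨φ, hφ⟩ := exists_iso hG v
  obtain ⟨ψ, hψ⟩ := exists_iso hH w
  obtain ⟨e, he⟩ := steiner_iso (t := 3) (by norm_num) (by norm_num)
    (by rw [Fintype.card_coe, hG.deg]) (by rw [Fintype.card_coe, hH.deg]) (hG.steiner v) (hH.steiner w)
  obtain ⟨θ, hθ, _⟩ := iso_of_system e he
  refine ⟨(φ.symm.trans θ).trans ψ, ?_⟩
  have h1 : φ.symm v = none := φ.injective (by rw [hφ]; exact φ.apply_symm_apply v)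
  show ψ (θ (φ.symm v)) = w
  rw [h1, hθ, hψ]

end Cfsg.Agent.Lib.GolU
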